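import Cfsg.Agent.LAE65.Pair.Facts
import Cfsg.Agent.Lib.Components.Basic

/-!
A subnormal block with quasisimple quotient equals or centralises every other subnormal block.
-/

set_option autoImplicit false
set_option linter.style.haveILetI false
set_option linter.unusedSectionVars false

open Subgroup Cfsg
open scoped commutatorElement

namespace Cfsg.Agent.LAE65.Pair

open Block

variable {G : Type*} [Group G] [Finite G] {p : ℕ} [hp : Fact p.Prime] {T : Sylow p G}
  {E F : Subgroup G}
  (hG : centralizer (pCore p G : Set G) ≤ pCore p G)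
  (hE : IsBaumannBlock p (T : Subgroup G) E)

include hG hE in
theorem core_commutator_eq_bot (hF : ⁅F, F⁆ = F) (hFr : pResidualOf p F = F)
    (hFE : F ≤ normalizer (E : Set G)) (hEF : ⁅E, F⁆ ≤ pCoreOf p E) :
    ⁅pCoreOf p E, F⁆ = ⊥ := by
  have hf := moduleFacts hG hE
  set Q := pCoreOf p E with hQdef
  set W := omegaOneCenter p Q with hWdef
  set Z := W ⊓ centralizer (E : Set G) with hZdef
  have hWQ : W ≤ Q := omegaOneCenter_le _
  have hQcW : Q ≤ centralizer (W : Set G) :=
    le_centralizer_iff.1 (omegaOneCenter_le_centralizer _)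
  have hFQ : F ≤ normalizer (Q : Set G) := hFE.trans fun g hg => by
    rw [mem_normalizer_iff_map, hQdef, pCoreOf]
    have hgE : E.map (MulAut.conj g).toMonoidHom = E := mem_normalizer_iff_map.1 hg
    refine eq_of_le_of_card_ge ?_ (card_map_conj _ g).ge
    let c : ↥E ≃* ↥E := (E.equivMapOfInjective (MulAut.conj g).toMonoidHom
      (MulAut.conj g).injective).trans (MulEquiv.subgroupCongr hgE)
    rintro _ ⟨_, ⟨q, hq, rfl⟩, rfl⟩
    exact ⟨c q, Thompson.map_pCore_equiv c ▸ mem_map_of_mem c.toMonoidHom hq, rfl⟩
  have hFW : F ≤ normalizer (W : Set G) :=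
    hFQ.trans (normalizer_le_normalizer_omegaOneCenter _)
  have hEW : E ≤ normalizer (W : Set G) := le_normalizer_omega_core E
  have hFZ : F ≤ normalizer (Z : Set G) :=
    le_trans (le_inf hFW (hFE.trans (LocalEven64.le_normalizer_centralizer le_rfl)))
      inf_normalizer_le_normalizer_inf
  have hEZ : E ≤ normalizer (Z : Set G) :=
    le_trans (le_inf hEW (le_centralizer_iff.1 (inf_le_right : Z ≤ _) |>.trans
      (centralizer_le_normalizer _) |> fun _ => LocalEven64.le_normalizer_centralizer le_normalizer))
      inf_normalizer_le_normalizer_inf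
  have hWel := isElementaryAbelian_omegaOneCenter (p := p) Q
  have hWc : W ≤ centralizer (W : Set G) := Thompson.le_centralizer_self hWel.1
  -- `[W, F] ≤ Z`
  have hWF : ⁅W, F⁆ ≤ Z := by
    refine commutator_le_of_perfect inf_le_left ?_ ?_ hEW hEZ hFW hFZ (irr_omega hG hE) ?_ hF
    · rw [commutator_eq_bot_iff_le_centralizer.2 hWc]; exact bot_le
    · exact hWc.trans ((centralizer_le inf_le_left).trans (centralizer_le_normalizer _))
    · intro e he f hf' a ha
      rw [commutatorElement_eq_one_iff_mul_comm.2]
      · exact one_mem _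
      exact (mem_centralizer_iff.1 (hQcW (hEF (commutator_mem_commutator he hf'))) a ha).symm
  -- hence `[X, F] = 1`
  have hXF : ⁅⁅W, E⁆, F⁆ = ⊥ := by
    rw [commutator_comm W E]
    refine commutator_commutator_eq_bot_of_rotate ?_ ?_
    · rw [← le_bot_iff]
      refine le_trans (commutator_mono hWF le_rfl) ?_
      rw [le_bot_iff, commutator_eq_bot_iff_le_centralizer]
      exact inf_le_right
    · rw [← le_bot_iff]
      refine le_trans (commutator_mono ((commutator_comm F E).le.trans hEF) le_rfl) ?_
      rw [le_bot_iff, commutator_eq_bot_iff_le_centralizer]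
      exact hQcW
  have hX : blockModule p E ≤ centralizer (F : Set G) := by
    rw [← commutator_eq_bot_iff_le_centralizer, blockModule, ← hf.eq]
    exact hXF
  rcases core_cases hG hE with hlin | hexc
  · rw [commutator_eq_bot_iff_le_centralizer]
    exact hlin.le.trans hX
  have hQW : ⁅Q, F⁆ ≤ W := by
    refine commutator_le_of_perfect hWQ ?_ ?_ (le_normalizer_core E) hEW hFQ hFW hexc.irr ?_ hF
    · exact hexc.derived.le.trans inf_le_left
    · exact hQcW.trans (centralizer_le_normalizer _)
    · intro e he f hf' a ha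
      exact (inf_le_left : Z ≤ W) (hexc.derived ▸
        commutator_mem_commutator (hEF (commutator_mem_commutator he hf')) ha)
  have hZF : ⁅⁅Q, Q⁆, F⁆ = ⊥ := by
    refine commutator_commutator_eq_bot_of_rotate ?_ ?_
    · rw [← le_bot_iff]
      refine le_trans (commutator_mono hQW le_rfl) ?_
      rw [le_bot_iff, commutator_eq_bot_iff_le_centralizer]
      exact omegaOneCenter_le_centralizer _
    · rw [← le_bot_iff]
      refine le_trans (commutator_mono ((commutator_comm F Q).le.trans hQW) le_rfl) ?_
      rw [le_bot_iff, commutator_eq_bot_iff_le_centralizer]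
      exact omegaOneCenter_le_centralizer _
  have hWFc : W ≤ centralizer (F : Set G) := by
    refine hf.sup_eq.trans (sup_le hX ?_)
    rw [← hexc.derived, ← commutator_eq_bot_iff_le_centralizer]
    exact hZF
  rw [commutator_comm, commutator_eq_bot_iff_le_centralizer]
  refine le_of_coprime hFr fun f hf' hfp => mem_centralizer_iff.2 fun x hx => ?_
  have hw : x⁻¹ * (f * x * f⁻¹) ∈ W := by
    have := hQW (commutator_mem_commutator (Q.inv_mem hx) hf')
    rw [commutatorElement_def, inv_inv] at this
    simpa [mul_assoc] using this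
  refine (commute_of_stabilizes hfp (x := x) (w := x⁻¹ * (f * x * f⁻¹)) (by group)
    (mem_centralizer_iff.1 (hWFc hw) f hf') (hWel.2 _ hw)).symm

theorem conj_mem_residual {E : Subgroup G} (hr : pResidualOf p E = E)
    (hM : pCore p G ≤ normalizer (E : Set G)) {g : G}
    (hg : ∀ x ∈ E, g * x * g⁻¹ ∈ E ⊔ pCore p G) : g ∈ normalizer (E : Set G) := by
  rw [mem_normalizer_iff_map]
  refine eq_of_le_of_card_ge ?_ (card_map_conj _ g).ge
  rw [map_le_iff_le_comap]
  refine le_of_coprime hr fun y hy hyp => ?_
  refine mem_of_coprime_mem_sup Thompson.isPGroup_pCore hM (hg y hy) ?_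
  show (orderOf (MulAut.conj g y)).Coprime p
  rwa [MulEquiv.orderOf_eq]

theorem le_normalizer_of_commutator_le_core {E F : Subgroup G} (hr : pResidualOf p E = E)
    (hM : pCore p G ≤ normalizer (E : Set G)) (h : ⁅E, F⁆ ≤ pCore p G) :
    F ≤ normalizer (E : Set G) := by
  intro f hf
  refine conj_mem_residual hr hM fun x hx => ?_
  have h2 : ⁅x⁻¹, f⁆ ∈ pCore p G := h (commutator_mem_commutator (inv_mem hx) hf)
  rw [show f * x * f⁻¹ = x * ⁅x⁻¹, f⁆ by rw [commutatorElement_def]; group]
  exact mul_mem (mem_sup_left hx) (mem_sup_right h2)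

theorem isPerfect_map_eq_top (hperf : IsQuasisimple (↥E ⧸ pCore p ↥E)) :
    commutator (↥E ⧸ pCore p ↥E) = ⊤ := by
  haveI := hperf.1
  exact Group.IsPerfect.commutator_eq_top

/-- The image of a subnormal block with quasisimple quotient is a component. -/
theorem isComponent_image (hEs : E.IsSubnormal) (hq : IsQuasisimple (↥E ⧸ pCore p ↥E)) :
    IsComponent (E.map (QuotientGroup.mk' (pCore p G))) := by
  refine ⟨hEs.map (QuotientGroup.mk'_surjective _), ?_⟩
  let ρ := (QuotientGroup.mk' (pCore p G)).comp E.subtype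
  have hker : ρ.ker = pCore p ↥E := by
    ext x
    rw [MonoidHom.mem_ker]
    constructor
    · intro h
      have : (x : G) ∈ pCoreOf p E := core_eq_inf (p := p) hEs ▸
        ⟨x.2, (QuotientGroup.eq_one_iff (x : G)).1 h⟩
      obtain ⟨y, hy, hyx⟩ := this
      rwa [← E.subtype_injective hyx]
    · intro h
      exact (QuotientGroup.eq_one_iff (x : G)).2 (Thompson.map_pCore_isSubnormal_le hEs ⟨x, h, rfl⟩)
  have hr : ρ.range = E.map (QuotientGroup.mk' (pCore p G)) := by
    rw [MonoidHom.range_comp, range_subtype]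
  exact Components.isQuasisimple_of_mulEquiv
    (((QuotientGroup.quotientMulEquivOfEq hker.symm).trans
      (QuotientGroup.quotientKerEquivRange ρ)).trans (MulEquiv.subgroupCongr hr)) hq

theorem map_commutator_le_core {A B : Subgroup G}
    (h : ⁅A.map (QuotientGroup.mk' (pCore p G)), B.map (QuotientGroup.mk' (pCore p G))⁆ = ⊥) :
    ⁅A, B⁆ ≤ pCore p G := by
  rw [← map_commutator, Subgroup.map_eq_bot_iff, QuotientGroup.ker_mk'] at h
  exact h

theorem sup_core_of_map_le {A B : Subgroup G}
    (h : A.map (QuotientGroup.mk' (pCore p G)) ≤ B.map (QuotientGroup.mk' (pCore p G))) :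
    A ≤ B ⊔ pCore p G := by
  have := map_le_iff_le_comap.1 h
  rwa [comap_map_eq, QuotientGroup.ker_mk'] at this

include hG hE in
/-- If one of two subnormal blocks has quasisimple quotient they are equal or commute. -/
theorem eq_or_commute_of_quasisimple (hEs : E.IsSubnormal) {U : Sylow p G}
    (hF : IsBaumannBlock p (U : Subgroup G) F) (hFs : F.IsSubnormal)
    (hq : IsQuasisimple (↥F ⧸ pCore p ↥F))
    (hcase : IsQuasisimple (↥E ⧸ pCore p ↥E) ∨ Group.IsSolvable (↥E ⧸ pCore p ↥E)) :
    E = F ∨ ⁅E, F⁆ = ⊥ := by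
  set π := QuotientGroup.mk' (pCore p G)
  have hcF := isComponent_image hFs hq
  rcases Components.component_le_or_commutator_eq_bot hcF
    (hEs.map (f := π) (QuotientGroup.mk'_surjective _)) with h | h
  · left
    rcases hcase with hEq | hsol
    · have heq := Components.component_eq_of_le hcF (isComponent_image hEs hEq) h
      have h1 : E ≤ F ⊔ pCore p G := sup_core_of_map_le heq.ge
      have h2 : F ≤ E ⊔ pCore p G := sup_core_of_map_le heq.le
      exact le_antisymm
        (le_of_coprime hE.1 fun x hx hxp =>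
          mem_of_coprime_mem_sup Thompson.isPGroup_pCore (core_le_normalizer hF) (h1 hx) hxp)
        (le_of_coprime hF.1 fun x hx hxp =>
          mem_of_coprime_mem_sup Thompson.isPGroup_pCore (core_le_normalizer hE) (h2 hx) hxp)
    · refine absurd h (Components.component_not_le_isSolvable hcF ?_)
      haveI := hsol
      let ρ : ↥E ⧸ pCore p ↥E →* ↥(E.map π) :=
        QuotientGroup.lift _ (π.subgroupMap E) fun q hq => Subtype.ext
          ((QuotientGroup.eq_one_iff (q : G)).2
            (Thompson.map_pCore_isSubnormal_le hEs ⟨q, hq, rfl⟩))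
      refine Group.isSolvable_of_surjective (f := ρ) fun y => ?_
      obtain ⟨x, hx⟩ := π.subgroupMap_surjective E y
      exact ⟨QuotientGroup.mk x, hx⟩
  right
  have hle : ⁅E, F⁆ ≤ pCore p G := by
    rw [commutator_comm]; exact map_commutator_le_core h
  have hFE : F ≤ normalizer (E : Set G) :=
    le_normalizer_of_commutator_le_core hE.1 (core_le_normalizer hE) hle
  have hQ : ⁅E, F⁆ ≤ pCoreOf p E := by
    rw [← core_eq_inf hEs]
    exact le_inf (le_normalizer_iff_commutator_le_left.1 hFE) hle
  have hFp := perfect_of_quotient hF (isPerfect_map_eq_top hq)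
  have hc := core_commutator_eq_bot hG hE hFp hF.1 hFE hQ
  rw [commutator_comm, ← hFp]
  refine commutator_commutator_eq_bot_of_rotate ?_ ?_
  · rw [← le_bot_iff, commutator_comm F E]
    exact (commutator_mono hQ le_rfl).trans hc.le
  · rw [← le_bot_iff]
    exact (commutator_mono hQ le_rfl).trans hc.le

end Cfsg.Agent.LAE65.Pair
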