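import Cfsg.Agent.LAE65.Pair.Pairs
import Cfsg.Agent.LAE65.Pair.Big

/-!
Subnormal blocks are equal or commute.
-/

set_option autoImplicit false
set_option linter.style.haveILetI false
set_option linter.unusedSectionVars false
set_option maxHeartbeats 800000

open Subgroup Cfsg
open scoped commutatorElement

namespace Cfsg.Agent.LAE65.Pair

open Block

variable {G : Type*} [Group G] [Finite G] {p : ℕ} [hp : Fact p.Prime] {E F : Subgroup G}

theorem quasisimple_or_small {T : Sylow p G} (hG : centralizer (pCore p G : Set G) ≤ pCore p G)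
    (hE : IsBaumannBlock p (T : Subgroup G) E) (hEs : E.IsSubnormal) :
    IsQuasisimple (↥E ⧸ pCore p ↥E) ∨ Small p E := by
  have hE' := hE
  rcases hE.2.2.2.2 with ⟨F, _, _, n, hn, hiso, hact, halt⟩ | ⟨hp2, m, hiso, hact, hq⟩
  · by_cases hF : 4 ≤ Fintype.card F
    · exact Or.inl (isQuasisimple_of_sl hF hiso)
    right
    have h1 : 1 < Fintype.card F := Fintype.one_lt_card
    have hn0 : n ≠ 0 := fun h => by rw [h, pow_zero] at hn; omega
    have hle : p ≤ Fintype.card F := hn ▸ Nat.le_self_pow hn0 p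
    have hp2 := hp.out.two_le
    have hp23 : p = 2 ∨ p = 3 := by omega
    have hn1 : n = 1 := by
      by_contra h
      have : p ^ 2 ≤ Fintype.card F := hn ▸ Nat.pow_le_pow_right hp.out.pos (by omega)
      nlinarith
    refine small_of_sl hG hE' hEs (by rw [hn, hn1, pow_one]) hp23 hiso hact ?_
    rcases halt with h | ⟨h3, hactQ, hder, -, hZ, -, hb⟩
    · exact Or.inl h
    · exact Or.inr ⟨h3, hactQ, hder, hZ, hb⟩
  · by_cases hm : 2 ≤ m
    · exact Or.inl (isQuasisimple_of_alt hm hiso)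
    obtain rfl | rfl : m = 0 ∨ m = 1 := by omega
    · exfalso
      refine eq_bot_of_le_core hE' fun e he => ?_
      obtain ⟨iso⟩ := hiso
      haveI : Subsingleton (Fin (2 * 0 + 1)) := inferInstanceAs (Subsingleton (Fin 1))
      haveI : Subsingleton ↥(alternatingGroup (Fin (2 * 0 + 1))) :=
        ⟨fun a b => Subtype.ext (Subsingleton.elim _ _)⟩
      have : Subsingleton (↥E ⧸ pCore p ↥E) := iso.toEquiv.subsingleton
      exact ⟨⟨e, he⟩, (QuotientGroup.eq_one_iff _).1 (Subsingleton.elim _ _), rfl⟩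
    · exact Or.inr (small_of_alt3 hG hE' hEs hp2 hiso hact hq)

theorem isPGroup_quotient (hs : Small p E) {q : ℕ} (hq : 5 - p = q) (hEs : E.IsSubnormal) :
    IsPGroup q (↥E ⧸ pCore p ↥E) := by
  intro x
  obtain ⟨x, rfl⟩ := QuotientGroup.mk'_surjective (pCore p ↥E) x
  obtain ⟨j, hj⟩ := hs.qmod x x.2
  refine ⟨j, ?_⟩
  rw [← map_pow]
  refine (QuotientGroup.eq_one_iff _).2 ?_
  obtain ⟨y, hy, hyx⟩ : (x : G) ^ q ^ j ∈ pCoreOf p E :=
    (core_eq_inf (p := p) hEs).le ⟨E.pow_mem x.2 _, hq ▸ hj⟩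
  have : y = x ^ q ^ j := Subtype.ext (by simpa using hyx)
  exact this ▸ hy

theorem isSolvable_quotient (hs : Small p E) (hEs : E.IsSubnormal) :
    Group.IsSolvable (↥E ⧸ pCore p ↥E) := by
  obtain ⟨q, hq, hqp⟩ : ∃ q, 5 - p = q ∧ q.Prime := by
    rcases hs.two_or_three with rfl | rfl
    exacts [⟨3, rfl, by norm_num⟩, ⟨2, rfl, by norm_num⟩]
  haveI : Fact q.Prime := ⟨hqp⟩
  haveI := (isPGroup_quotient hs hq hEs).isNilpotent
  infer_instance

theorem le_preimage (hs : Small p E) {q : ℕ} (hq : 5 - p = q) (hEs : E.IsSubnormal) :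
    E ≤ (pCore q (G ⧸ pCore p G)).comap (QuotientGroup.mk' (pCore p G)) := by
  rw [← map_le_iff_le_comap]
  refine Thompson.le_pCore_of_isSubnormal (hEs.map (QuotientGroup.mk'_surjective _)) ?_
  rintro ⟨_, x, hx, rfl⟩
  obtain ⟨j, hj⟩ := hs.qmod x hx
  refine ⟨j, Subtype.ext ?_⟩
  show (QuotientGroup.mk' (pCore p G) x) ^ q ^ j = 1
  rw [← map_pow, ← hq]
  exact (QuotientGroup.eq_one_iff _).2 hj

/-- Subnormal blocks are equal or commute. -/
theorem eq_or_commute {T U : Sylow p G} (hG : centralizer (pCore p G : Set G) ≤ pCore p G)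
    (hE : IsBaumannBlock p (T : Subgroup G) E) (hF : IsBaumannBlock p (U : Subgroup G) F)
    (hEs : E.IsSubnormal) (hFs : F.IsSubnormal) : E = F ∨ ⁅E, F⁆ = ⊥ := by
  rcases quasisimple_or_small hG hF hFs with hFq | hFS
  · refine eq_or_commute_of_quasisimple hG hE hEs hF hFs hFq ?_
    rcases quasisimple_or_small hG hE hEs with hEq | hES
    exacts [Or.inl hEq, Or.inr (isSolvable_quotient hES hEs)]
  rcases quasisimple_or_small hG hE hEs with hEq | hES
  · rcases eq_or_commute_of_quasisimple hG hF hFs hE hEs hEq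
      (Or.inr (isSolvable_quotient hFS hFs)) with h | h
    exacts [Or.inl h.symm, Or.inr (by rwa [commutator_comm])]
  obtain ⟨q, hq, hqp⟩ : ∃ q, 5 - p = q ∧ q.Prime := by
    rcases hES.two_or_three with rfl | rfl
    exacts [⟨3, rfl, by norm_num⟩, ⟨2, rfl, by norm_num⟩]
  haveI : Fact q.Prime := ⟨hqp⟩
  set P := (pCore q (G ⧸ pCore p G)).comap (QuotientGroup.mk' (pCore p G)) with hPdef
  haveI : P.Normal := Normal.comap inferInstance _
  have hP : ∀ g ∈ P, ∃ j, g ^ (5 - p) ^ j ∈ pCore p G := by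
    intro g hg
    obtain ⟨j, hj⟩ := Thompson.isPGroup_pCore (p := q) (G := G ⧸ pCore p G) ⟨_, hg⟩
    refine ⟨j, (QuotientGroup.eq_one_iff _).1 ?_⟩
    rw [hq]
    simpa [← map_pow] using congrArg Subtype.val hj
  have hMP : pCore p G ≤ P := by
    intro x hx
    rw [hPdef, mem_comap, show QuotientGroup.mk' (pCore p G) x = 1 from (QuotientGroup.eq_one_iff x).2 hx]
    exact one_mem _
  exact eq_or_commute_small hG hP (Nat.card P) P le_rfl le_rfl hMP E F hES hFS hEs hFs
    (le_preimage hES hq hEs) (le_preimage hFS hq hFs)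

end Cfsg.Agent.LAE65.Pair
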