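import Cfsg.Agent.LAE65.Pair.Equal

/-!
Small blocks normalising each other with different modules commute.
-/

set_option autoImplicit false
set_option linter.style.haveILetI false
set_option linter.unusedSectionVars false
set_option maxHeartbeats 800000

open Subgroup Cfsg
open scoped commutatorElement Pointwise Matrix

namespace Cfsg.Agent.LAE65.Pair

open Block

variable {G : Type*} [Group G] [Finite G] {p : ℕ} [hp : Fact p.Prime] {E F : Subgroup G}
  (hE : Small p E) (hF : Small p F)

include hE in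
theorem Small.module_inf_cent : blockModule p E ⊓ centralizer (E : Set G) = ⊥ := by
  obtain ⟨S⟩ := hE.secX
  rw [eq_bot_iff]
  rintro x ⟨hx, hxc⟩
  by_contra hx1
  obtain ⟨M, hM, hMne⟩ := exists_ne_one hE.two_or_three
  obtain ⟨e, he, rfl⟩ := S.rep_surj M hM
  refine hMne ((S.rep_ker he).2 (S.mem_of_fix he hx hx1 ?_))
  rw [mem_centralizer_iff.1 hxc e he, mul_inv_cancel_right]

include hE in
theorem inf_eq_bot_of_ne (hEF : E ≤ normalizer (F : Set G))
    (hne : ¬ blockModule p E ≤ blockModule p F) : blockModule p E ⊓ blockModule p F = ⊥ := by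
  obtain ⟨S⟩ := hE.secX
  refine (S.irr bot_le inf_le_left ?_).resolve_right fun h => hne (h ▸ inf_le_right)
  exact (le_inf (le_normalizer.trans (normalizer_le_blockModule E))
    (hEF.trans (normalizer_le_blockModule F))).trans inf_normalizer_le_normalizer_inf

include hE in
theorem commute_module_of_inf (hFE : F ≤ normalizer (E : Set G))
    (h : blockModule p E ⊓ blockModule p F = ⊥) : ⁅blockModule p E, F⁆ = ⊥ := by
  rw [← le_bot_iff, ← h]
  exact le_inf (le_normalizer_iff_commutator_le_left.1 (hFE.trans (normalizer_le_blockModule E)))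
    (commutator_mono (module_le_omega E) le_rfl)

include hE in
theorem comm_le_blockQ (hFE : F ≤ normalizer (E : Set G))
    (h : ⁅blockModule p E, F⁆ = ⊥) : ⁅E, F⁆ ≤ blockQ p E := by
  obtain ⟨S⟩ := hE.secX
  rw [commutator_eq_bot_iff_le_centralizer] at h
  rw [commutator_le]
  intro e he f hf
  have hcE : ⁅e, f⁆ ∈ E := le_normalizer_iff_commutator_le_left.1 hFE (commutator_mem_commutator he hf)
  have hfC : f ∈ centralizer (blockModule p E : Set G) :=
    mem_centralizer_iff.2 fun x hx => (mem_centralizer_iff.1 (h hx) f hf).symm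
  have hcC : ⁅e, f⁆ ∈ centralizer (blockModule p E : Set G) := by
    rw [commutatorElement_def]
    exact mul_mem ((mem_normalizer_iff.1 (LocalEven64.le_normalizer_centralizer le_rfl
      (S.normA he)) f).1 hfC) (inv_mem hfC)
  refine (S.rep_ker hcE).1 (S.ext fun a ha => ?_)
  rw [← S.conj hcE ha, Matrix.one_mulVec, ← mem_centralizer_iff.1 hcC a ha, mul_inv_cancel_right]

include hE hF in
theorem eq_bot_of_core_centralized (hFE : ⁅E, F⁆ ≤ blockQ p E) (h : ⁅blockQ p E, F⁆ = ⊥) :
    ⁅E, F⁆ = ⊥ := by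
  rw [commutator_comm, commutator_eq_bot_iff_le_centralizer]
  refine le_of_coprime hF.res fun f hf hfp => mem_centralizer_iff.2 fun e he => ?_
  rw [commutator_eq_bot_iff_le_centralizer] at h
  have hw : ⁅f, e⁆ ∈ blockQ p E := (commutator_comm F E).le.trans hFE (commutator_mem_commutator hf he)
  exact (PushUp62.commute_of_stabilizes (Thompson.isPGroup_pCore.to_le inf_le_right)
    (fun y hy => mem_centralizer_iff.1 (h hy) f hf) (pow_orderOf_eq_one f) hfp hw).symm

include hE hF in
theorem core_centralized_of_le_W (h : Exc3 p E) (hFE : F ≤ normalizer (E : Set G))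
    (hX : ⁅blockModule p E, F⁆ = ⊥) (hle : ⁅blockQ p E, F⁆ ≤ blockW p E) : ⁅blockQ p E, F⁆ = ⊥ := by
  have hWQ : ⁅blockW p E, blockQ p E⁆ = ⊥ := commutator_eq_bot_iff_le_centralizer.2 fun w hw =>
    mem_centralizer_iff.2 fun q hq => hE.W_comm h hw hq
  have hZ : ⁅⁅blockQ p E, blockQ p E⁆, F⁆ = ⊥ := by
    refine commutator_commutator_eq_bot_of_rotate ?_ ?_
    · rw [← le_bot_iff]
      exact (commutator_mono hle le_rfl).trans hWQ.le
    · rw [← le_bot_iff, commutator_comm F]
      exact (commutator_mono hle le_rfl).trans hWQ.le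
  rw [h.derived] at hZ
  rw [commutator_eq_bot_iff_le_centralizer] at hX hZ
  have hWc : blockW p E ≤ centralizer (F : Set G) := sup_le hX hZ
  rw [commutator_comm, commutator_eq_bot_iff_le_centralizer]
  refine le_of_coprime hF.res fun f hf hfp => mem_centralizer_iff.2 fun q hq => ?_
  have hw : ⁅f, q⁆ ∈ blockW p E :=
    (commutator_comm F (blockQ p E)).le.trans hle (commutator_mem_commutator hf hq)
  exact (PushUp62.commute_of_stabilizes
    (Thompson.isPGroup_pCore.to_le ((hE.W_le h).trans inf_le_right))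
    (fun y hy => mem_centralizer_iff.1 (hWc hy) f hf) (pow_orderOf_eq_one f) hfp hw).symm

include hE in
theorem derived_le_of_sup (h : Exc3 p E) {I : Subgroup G} (hI : I ≤ blockQ p E)
    (hQ : blockQ p E ≤ I ⊔ blockW p E) : blockZ E ≤ ⁅I, I⁆ := by
  obtain ⟨S⟩ := h.secQ
  have hIW : I ≤ normalizer (blockW p E : Set G) := hI.trans S.A_le_normB
  rw [← h.derived]
  refine commutator_le.2 fun a ha b hb => ?_
  have ha' : a ∈ ((I : Set G) * (blockW p E : Set G)) := by
    rw [← coe_mul_of_left_le_normalizer_right _ _ hIW]; exact hQ ha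
  have hb' : b ∈ ((I : Set G) * (blockW p E : Set G)) := by
    rw [← coe_mul_of_left_le_normalizer_right _ _ hIW]; exact hQ hb
  obtain ⟨i, hi, w, hw, rfl⟩ := Set.mem_mul.1 ha'
  obtain ⟨i', hi', w', hw', rfl⟩ := Set.mem_mul.1 hb'
  rw [PushUp62.commutator_mul_left, commutatorElement_eq_one_iff_mul_comm.2
    (hE.W_comm h hw hb).symm, mul_one, mul_inv_cancel, one_mul,
    PushUp62.commutator_mul_right, commutatorElement_eq_one_iff_mul_comm.2 (hE.W_comm h hw' (hI hi)),
    mul_one, mul_inv_cancel, mul_one]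
  exact commutator_mem_commutator hi hi'

include hE hF in
/-- The intersection of the cores cannot cover both top sections. -/
theorem false_of_cover (hEF : E ≤ normalizer (F : Set G)) (hFE : F ≤ normalizer (E : Set G))
    (hXF : ⁅blockModule p E, F⁆ = ⊥) (hcomm : ⁅E, F⁆ ≤ blockQ p E)
    (h : Exc3 p E) (h' : Exc3 p F)
    (hI : ¬ blockQ p E ⊓ blockQ p F ≤ blockW p E) (hI' : ¬ blockQ p E ⊓ blockQ p F ≤ blockW p F) :
    False := by
  have h3 := h.three
  subst h3
  obtain ⟨S⟩ := h.secQ
  obtain ⟨R⟩ := h'.secQ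
  set I := blockQ 3 E ⊓ blockQ 3 F with hIdef
  have hEI : E ≤ normalizer (I : Set G) := (le_inf (le_normalizer.trans (normalizer_le_blockQ E))
    (hEF.trans (normalizer_le_blockQ F))).trans inf_normalizer_le_normalizer_inf
  have hFI : F ≤ normalizer (I : Set G) := (le_inf (hFE.trans (normalizer_le_blockQ E))
    (le_normalizer.trans (normalizer_le_blockQ F))).trans inf_normalizer_le_normalizer_inf
  have hQ : blockQ 3 E ≤ I ⊔ blockW 3 E := ((S.irr le_sup_right (sup_le inf_le_left (hE.W_le h))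
    (LocalEven62.le_normalizer_sup hEI (le_normalizer.trans (normalizer_le_blockW E)))).resolve_left
    fun e => hI (le_sup_left.trans e.le)).ge
  have hQ' : blockQ 3 F ≤ I ⊔ blockW 3 F := ((R.irr le_sup_right (sup_le inf_le_right (hF.W_le h'))
    (LocalEven62.le_normalizer_sup hFI (le_normalizer.trans (normalizer_le_blockW F)))).resolve_left
    fun e => hI' (le_sup_left.trans e.le)).ge
  have hII : ⁅I, I⁆ ≤ I := commutator_le.2 fun a ha b hb =>
    mul_mem (mul_mem (mul_mem ha hb) (inv_mem ha)) (inv_mem hb)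
  have hIIE : ⁅I, I⁆ ≤ blockZ E := h.derived ▸ commutator_mono inf_le_left inf_le_left
  have hIIF : ⁅I, I⁆ ≤ blockZ F := h'.derived ▸ commutator_mono inf_le_right inf_le_right
  have hZE := derived_le_of_sup hE h inf_le_left hQ
  have hZF := derived_le_of_sup hF h' inf_le_right hQ'
  have hZ : blockZ F = blockZ E := le_antisymm (hZF.trans hIIE) (hZE.trans hIIF)
  obtain ⟨SX⟩ := hE.secX
  have hXQ : blockModule 3 E ⊓ blockQ 3 F = ⊥ := by
    refine (SX.irr bot_le inf_le_left ((le_inf (le_normalizer.trans (normalizer_le_blockModule E))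
      (hEF.trans (normalizer_le_blockQ F))).trans inf_normalizer_le_normalizer_inf)).resolve_right
      fun e => ?_
    have hle : blockModule 3 E ≤ blockZ F := le_inf ((e.ge.trans inf_le_right).trans inf_le_left)
      (commutator_eq_bot_iff_le_centralizer.1 hXF)
    rw [hZ] at hle
    have hb : blockModule 3 E ≤ ⊥ := hE.module_inf_cent ▸ le_inf le_rfl (hle.trans inf_le_right)
    obtain ⟨a, ha, hav⟩ := SX.crd_surj ![1, 0]
    have := (SX.crd_ker ha).2 (hb ha)
    rw [hav] at this
    exact three_one_ne (congrFun this 0)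
  have hIW : ∀ w ∈ I, w ∈ blockW 3 E → w ∈ blockZ E := by
    intro w hw hwW
    have hn : blockModule 3 E ≤ normalizer (blockZ E : Set G) :=
      hE.module_le.trans (le_normalizer.trans (normalizer_le_blockZ E))
    have h2 : w ∈ ((blockModule 3 E : Set G) * (blockZ E : Set G)) := by
      rw [← coe_mul_of_left_le_normalizer_right _ _ hn]; exact hwW
    obtain ⟨x, hx, z, hz, rfl⟩ := Set.mem_mul.1 h2
    have hxI : x ∈ blockQ 3 F := by
      have := mul_mem (show x * z ∈ blockQ 3 F from hw.2) (inv_mem ((hZE.trans hII) hz).2)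
      rwa [mul_inv_cancel_right] at this
    have : x ∈ (⊥ : Subgroup G) := hXQ ▸ ⟨hx, hxI⟩
    rw [mem_bot.1 this, one_mul]; exact hz
  obtain ⟨u, hu, huW⟩ := SetLike.not_le_iff_exists.1 hI
  have huW' : u ∉ blockW 3 F := fun huF => by
    have hn : blockModule 3 F ≤ normalizer (blockZ F : Set G) :=
      hF.module_le.trans (le_normalizer.trans (normalizer_le_blockZ F))
    have h2 : u ∈ ((blockModule 3 F : Set G) * (blockZ F : Set G)) := by
      rw [← coe_mul_of_left_le_normalizer_right _ _ hn]; exact huF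
    obtain ⟨x, hx, z, hz, rfl⟩ := Set.mem_mul.1 h2
    rw [hZ] at hz
    have hxQ : x ∈ blockQ 3 E := by
      have := mul_mem (show x * z ∈ blockQ 3 E from hu.1) (inv_mem ((hZE.trans hII) hz).1)
      rwa [mul_inv_cancel_right] at this
    exact huW (mul_mem (W_of_Q_inter hE hF hEF hFE hcomm h hx hxQ) (mem_sup_right hz))
  obtain ⟨J, hJ, hJ2⟩ := three_exists_sq
  obtain ⟨f, hf, hfJ⟩ := R.rep_surj J hJ
  have hfQ := normalizer_le_blockQ (p := 3) E (hFE hf)
  have hfW := normalizer_le_blockW (p := 3) E (hFE hf)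
  have hscal : S.mat f = 1 ∨ S.mat f = -1 := by
    refine S.scalar rfl hfQ hfW fun e he => ?_
    have hc : ⁅f, e⁆ ∈ blockQ 3 E := (commutator_comm F E).le.trans hcomm (commutator_mem_commutator hf he)
    rw [show f * e = ⁅f, e⁆ * (e * f) by rw [commutatorElement_def]; group,
      S.mat_mul (S.normA hc.1) (S.E_le_normB hc.1) (mul_mem (S.normA he) hfQ)
        (mul_mem (S.E_le_normB he) hfW), S.mat_eq_rep hc.1, (S.rep_ker hc.1).2 hc, one_mul]
  have hfu : f * u * f⁻¹ ∈ I := (mem_normalizer_iff.1 (hFI hf) u).1 hu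
  have hcase : R.crd (f * u * f⁻¹) = R.crd u ∨ R.crd (f * u * f⁻¹) = -R.crd u := by
    have hZW : blockZ E ≤ blockW 3 F := hZ ▸ le_sup_right
    rcases hscal with hs | hs
    · refine Or.inl ((R.crd_eq_iff hfu.2 hu.2).2 (hZW (hIW _ (mul_mem hfu (inv_mem hu)) ?_)))
      exact (S.mat_eq_one_iff hfQ hfW).1 hs u hu.1
    · refine Or.inr ((R.crd_eq_neg_iff hfu.2 hu.2).2 (hZW (hIW _ (mul_mem hfu hu) ?_)))
      exact (S.mat_eq_neg_iff hfQ hfW).1 hs u hu.1
  rw [R.conj hf hu.2, hfJ] at hcase
  have hv : R.crd u ≠ 0 := R.crd_ne hu.2 huW'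
  have h2 : J *ᵥ (J *ᵥ R.crd u) = R.crd u := by
    rcases hcase with h | h <;> rw [h]
    · exact h
    · rw [Matrix.mulVec_neg, h, neg_neg]
  rw [Matrix.mulVec_mulVec, hJ2, Matrix.neg_mulVec, Matrix.one_mulVec] at h2
  exact hv (three_neg_eq _ h2)
where
  W_of_Q_inter {G : Type _} [Group G] [Finite G] {E F : Subgroup G} [Fact (Nat.Prime 3)]
      (hE : Small 3 E) (hF : Small 3 F) (hEF : E ≤ normalizer (F : Set G))
      (hFE : F ≤ normalizer (E : Set G)) (_ : ⁅E, F⁆ ≤ blockQ 3 E) (h : Exc3 3 E) {x : G}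
      (hx : x ∈ blockModule 3 F) (hxQ : x ∈ blockQ 3 E) : x ∈ blockW 3 E := by
    by_cases hle : blockModule 3 F ≤ blockModule 3 E
    · exact mem_sup_left (hle hx)
    have hc := commute_module_of_inf hF hEF (inf_eq_bot_of_ne hF hFE hle)
    exact mem_sup_right ⟨hxQ.1, commutator_eq_bot_iff_le_centralizer.1 hc hx⟩
  three_neg_eq : ∀ v : Fin 2 → ZMod 3, -v = v → v = 0 := by decide +kernel

include hE hF in
/-- Small blocks normalising each other with different modules commute. -/
theorem commute_of_module_ne (hEF : E ≤ normalizer (F : Set G)) (hFE : F ≤ normalizer (E : Set G))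
    (hne : blockModule p E ≠ blockModule p F) : ⁅E, F⁆ = ⊥ := by
  have hbot : blockModule p E ⊓ blockModule p F = ⊥ := by
    by_cases h : blockModule p E ≤ blockModule p F
    · have h' : ¬ blockModule p F ≤ blockModule p E := fun h' => hne (le_antisymm h h')
      rw [inf_comm]; exact inf_eq_bot_of_ne hF hFE h'
    · exact inf_eq_bot_of_ne hE hEF h
  have hXE := commute_module_of_inf hE hFE hbot
  have hXF := commute_module_of_inf hF hEF (by rwa [inf_comm] at hbot)
  have hcE := comm_le_blockQ hE hFE hXE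
  have hcF : ⁅F, E⁆ ≤ blockQ p F := comm_le_blockQ hF hEF hXF
  have key : ⁅blockQ p E, F⁆ = ⊥ ∨ ⁅blockQ p F, E⁆ = ⊥ := by
    rcases hE.alt with h | h
    · exact Or.inl (h ▸ hXE)
    rcases hF.alt with h' | h'
    · exact Or.inr (h' ▸ hXF)
    have hI1 : ⁅blockQ p E, F⁆ ≤ blockQ p E ⊓ blockQ p F :=
      le_inf (le_normalizer_iff_commutator_le_left.1 (hFE.trans (normalizer_le_blockQ E)))
        ((commutator_mono inf_le_left le_rfl).trans ((commutator_comm E F).le.trans hcF))
    have hI2 : ⁅blockQ p F, E⁆ ≤ blockQ p E ⊓ blockQ p F :=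
      le_inf ((commutator_mono inf_le_left le_rfl).trans ((commutator_comm F E).le.trans hcE))
        (le_normalizer_iff_commutator_le_left.1 (hEF.trans (normalizer_le_blockQ F)))
    by_cases hI : blockQ p E ⊓ blockQ p F ≤ blockW p E
    · exact Or.inl (core_centralized_of_le_W hE hF h hFE hXE (hI1.trans hI))
    by_cases hI' : blockQ p E ⊓ blockQ p F ≤ blockW p F
    · exact Or.inr (core_centralized_of_le_W hF hE h' hEF hXF (hI2.trans hI'))
    exact (false_of_cover hE hF hEF hFE hXE hcE h h' hI hI').elim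
  rcases key with h | h
  · exact eq_bot_of_core_centralized hE hF hcE h
  · rw [commutator_comm]; exact eq_bot_of_core_centralized hF hE hcF h

end Cfsg.Agent.LAE65.Pair
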