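import Cfsg.Agent.LAE65.Pair.Same

/-!
Small blocks normalising each other and having the same module are equal.
-/

set_option autoImplicit false
set_option linter.style.haveILetI false
set_option linter.unusedSectionVars false
set_option maxHeartbeats 800000

open Subgroup Cfsg
open scoped commutatorElement Pointwise Matrix
open Cfsg.Agent.PushUp62 (centMod)

namespace Cfsg.Agent.LAE65.Pair

open Block

variable {G : Type*} [Group G] [Finite G] {p : ℕ} [hp : Fact p.Prime] {E F P : Subgroup G}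
  (hE : Small p E) (hF : Small p F)

include hE hF in
/-- An element of `F` acts on the common module as an element of `E`. -/
theorem exists_agree (hX : blockModule p E = blockModule p F) {f : G} (hf : f ∈ F) :
    ∃ e ∈ E, e⁻¹ * f ∈ centralizer (blockModule p E : Set G) := by
  obtain ⟨S⟩ := hE.secX
  obtain ⟨R⟩ := hF.secX
  have hfX : f ∈ normalizer (blockModule p E : Set G) :=
    hX.symm ▸ normalizer_le_blockModule F (le_normalizer hf)
  have hone : ∀ {g}, g ∈ F → g ∈ normalizer (blockModule p E : Set G) → R.rep g = 1 → S.mat g = 1 := by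
    intro g hg hgX h
    rw [S.mat_eq_one_iff hgX (normalizer_bot' g)]
    intro a ha
    rw [mem_bot, mul_inv_eq_one, mul_inv_eq_iff_eq_mul]
    exact module_comm ha ((R.rep_ker hg).1 h).2
  have hneg : ∀ {g}, g ∈ F → g ∈ normalizer (blockModule p E : Set G) → R.rep g = -1 →
      S.mat g = -1 := by
    intro g hg hgX h
    rw [S.mat_eq_neg_iff hgX (normalizer_bot' g), hX]
    exact (R.mat_eq_neg_iff (R.normA hg) (R.E_le_normB hg)).1 (by rw [R.mat_eq_rep hg, h])
  have hR : InR p (S.mat f) := by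
    have hmem := R.rep_mem hf
    rcases hE.two_or_three with rfl | rfl
    · refine two_of_cube _ ?_
      rw [← S.mat_pow hfX (normalizer_bot' f)]
      refine hone (F.pow_mem hf 3) (pow_mem hfX 3) ?_
      rw [← R.mat_eq_rep (F.pow_mem hf 3), R.mat_pow (R.normA hf) (R.E_le_normB hf), R.mat_eq_rep hf]
      exact hmem.2
    · refine three_of_sq _ ?_
      rcases three_four _ hmem with h | h | h
      · exact Or.inl (hone hf hfX h)
      · exact Or.inr (Or.inl (hneg hf hfX h))
      · refine Or.inr (Or.inr ?_)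
        rw [← S.mat_mul hfX (normalizer_bot' f) hfX (normalizer_bot' f)]
        refine hneg (F.mul_mem hf hf) (mul_mem hfX hfX) ?_
        rw [← R.mat_eq_rep (F.mul_mem hf hf),
          R.mat_mul (R.normA hf) (R.E_le_normB hf) (R.normA hf) (R.E_le_normB hf), R.mat_eq_rep hf, h]
  obtain ⟨e, he, heq⟩ := S.rep_surj _ hR
  refine ⟨e, he, mem_centralizer_iff.2 fun x hx => ?_⟩
  have h1 : S.crd (e * x * e⁻¹) = S.crd (f * x * f⁻¹) := by
    rw [S.conj he hx, heq, S.mat_spec hfX (normalizer_bot' f) hx]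
  have h2 := (S.crd_eq_iff (S.E_conj he hx) ((mem_normalizer_iff.1 hfX x).1 hx)).1 h1
  rw [mem_bot, mul_inv_eq_one] at h2
  calc x * (e⁻¹ * f) = e⁻¹ * (e * x * e⁻¹) * f := by group
    _ = e⁻¹ * (f * x * f⁻¹) * f := by rw [h2]
    _ = e⁻¹ * f * x := by group

include hE hF in
/-- The core of an exceptional block lies in that of a block with the same module. -/
theorem core_le_of_exc (hEF : E ≤ normalizer (F : Set G)) (hFE : F ≤ normalizer (E : Set G))
    (hX : blockModule p E = blockModule p F) (h : Exc3 p E) : blockQ p E ≤ blockQ p F := by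
  have h3 := h.three
  subst h3
  obtain ⟨SX⟩ := hE.secX
  obtain ⟨R⟩ := hF.secX
  obtain ⟨S⟩ := h.secQ
  -- an element of `E ∩ F` inverting the module
  obtain ⟨J, hJ, hJ2⟩ := three_exists_sq
  obtain ⟨f, hf, hfJ⟩ := R.rep_surj J hJ
  obtain ⟨e, he, hek⟩ := exists_agree hE hF hX hf
  have hmatf : SX.mat f = SX.rep e := by
    rw [← SX.mat_eq_rep he]
    refine SX.ext fun a ha => ?_
    have hfX : f ∈ normalizer (blockModule 3 E : Set G) :=
      hX.symm ▸ normalizer_le_blockModule F (le_normalizer hf)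
    rw [← SX.mat_spec hfX (normalizer_bot' f) ha, ← SX.mat_spec (SX.normA he) (normalizer_bot' e) ha]
    congr 1
    have := mem_centralizer_iff.1 hek a ha
    calc f * a * f⁻¹ = e * ((e⁻¹ * f) * a) * f⁻¹ := by group
      _ = e * (a * (e⁻¹ * f)) * f⁻¹ := by rw [this]
      _ = e * a * e⁻¹ := by group
  have hfX : f ∈ normalizer (blockModule 3 E : Set G) :=
    hX.symm ▸ normalizer_le_blockModule F (le_normalizer hf)
  have hN2 : SX.rep e * SX.rep e = -1 := by
    rw [← hmatf, ← SX.mat_mul hfX (normalizer_bot' f) hfX (normalizer_bot' f),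
      SX.mat_eq_neg_iff (mul_mem hfX hfX) (normalizer_bot' _), hX]
    refine (R.mat_eq_neg_iff (R.normA (F.mul_mem hf hf)) (R.E_le_normB (F.mul_mem hf hf))).1 ?_
    rw [R.mat_mul (R.normA hf) (R.E_le_normB hf) (R.normA hf) (R.E_le_normB hf), R.mat_eq_rep hf,
      hfJ, hJ2]
  obtain ⟨D, hD, hDN⟩ := three_anti _ (SX.rep_mem he) hN2
  obtain ⟨d, hd, rfl⟩ := SX.rep_surj D hD
  set c := ⁅d, f⁆ with hc
  have hcE : c ∈ E := le_normalizer_iff_commutator_le_left.1 hFE (commutator_mem_commutator hd hf)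
  have hcF : c ∈ F := le_normalizer_iff_commutator_le_right.1 hEF (commutator_mem_commutator hd hf)
  have hdX := SX.normA hd
  have hcrep : SX.rep c = -1 := by
    have h1 : SX.mat (c * (f * d)) = SX.mat (d * f) := by
      rw [hc, commutatorElement_def]; congr 1; group
    rw [SX.mat_mul (SX.normA hcE) (normalizer_bot' c) (mul_mem hfX hdX) (normalizer_bot' _),
      SX.mat_mul hfX (normalizer_bot' f) hdX (normalizer_bot' d),
      SX.mat_mul hdX (normalizer_bot' d) hfX (normalizer_bot' f), hmatf, SX.mat_eq_rep hd,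
      SX.mat_eq_rep hcE, hDN] at h1
    have hinv : ∃ g ∈ E, SX.rep g * (SX.rep e * SX.rep d) = 1 ∧ (SX.rep e * SX.rep d) * SX.rep g = 1 := by
      refine ⟨(e * d)⁻¹, E.inv_mem (E.mul_mem he hd), ?_, ?_⟩ <;>
      · rw [← SX.mat_eq_rep he, ← SX.mat_eq_rep hd,
          ← SX.mat_mul (SX.normA he) (normalizer_bot' e) hdX (normalizer_bot' d),
          ← SX.mat_eq_rep (E.inv_mem (E.mul_mem he hd)),
          ← SX.mat_mul (SX.normA (by first | exact E.inv_mem (E.mul_mem he hd) | exact E.mul_mem he hd))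
            (normalizer_bot' _)
            (SX.normA (by first | exact E.mul_mem he hd | exact E.inv_mem (E.mul_mem he hd)))
            (normalizer_bot' _)]
        simp [SX.mat_one]
    obtain ⟨g, -, -, hg⟩ := hinv
    calc SX.rep c = SX.rep c * ((SX.rep e * SX.rep d) * SX.rep g) := by rw [hg, mul_one]
      _ = -((SX.rep e * SX.rep d) * SX.rep g) := by rw [← mul_assoc, h1, neg_mul]
      _ = -1 := by rw [hg]
  have hcQ : c ∉ blockQ 3 E := fun hh => three_neg_ne (hcrep ▸ (SX.rep_ker hcE).2 hh)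
  have hc2 : c * c ∈ blockQ 3 E := by
    refine (SX.rep_ker (E.mul_mem hcE hcE)).1 ?_
    rw [← SX.mat_eq_rep (E.mul_mem hcE hcE),
      SX.mat_mul (SX.normA hcE) (normalizer_bot' c) (SX.normA hcE) (normalizer_bot' c),
      SX.mat_eq_rep hcE, hcrep, neg_mul_neg, one_mul]
  have hcS : S.rep c = -1 := by
    refine (three_inv_unique _ (S.rep_mem hcE) ?_).resolve_left fun hh => hcQ ((S.rep_ker hcE).1 hh)
    rw [← S.mat_eq_rep hcE, ← S.mat_mul (S.normA hcE) (S.E_le_normB hcE) (S.normA hcE) (S.E_le_normB hcE),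
      S.mat_eq_rep (E.mul_mem hcE hcE), (S.rep_ker (E.mul_mem hcE hcE)).2 hc2]
  have hneg := (S.mat_eq_neg_iff (S.normA hcE) (S.E_le_normB hcE)).1 (by rw [S.mat_eq_rep hcE, hcS])
  set I := blockQ 3 E ⊓ blockQ 3 F with hI
  have hIW : I ≤ normalizer (blockW 3 E : Set G) := inf_le_left.trans S.A_le_normB
  have hQ : blockQ 3 E ≤ I ⊔ blockW 3 E := by
    intro u hu
    have h1 : ⁅c, u⁆ ∈ I := ⟨hE.comm_mem_blockQ hcE hu.2, hF.comm_mem_blockQ hcF hu.2⟩
    have h2 : u * u ∈ I ⊔ blockW 3 E := by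
      have := mul_mem (mem_sup_left (inv_mem h1))
        (mem_sup_right (S := I) (hneg u hu))
      rwa [show ⁅c, u⁆⁻¹ * (c * u * c⁻¹ * u) = u * u by simp only [commutatorElement_def]; group] at this
    have h3 : u * u * u ∈ blockW 3 E := by
      rw [← S.crd_ker (mul_mem (mul_mem hu hu) hu), S.crd_mul (mul_mem hu hu) hu, S.crd_mul hu hu]
      exact three_add _
    have := mul_mem (inv_mem h2) (mem_sup_right (S := I) h3)
    rwa [inv_mul_cancel_left] at this
  have hZ : blockZ E ≤ blockQ 3 F := by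
    rw [← h.derived]
    refine le_trans (commutator_le.2 fun a ha b hb => ?_) (inf_le_right : I ≤ _)
    have ha' : a ∈ ((I : Set G) * (blockW 3 E : Set G)) := by
      rw [← coe_mul_of_left_le_normalizer_right _ _ hIW]; exact hQ ha
    have hb' : b ∈ ((I : Set G) * (blockW 3 E : Set G)) := by
      rw [← coe_mul_of_left_le_normalizer_right _ _ hIW]; exact hQ hb
    obtain ⟨i, hi, w, hw, rfl⟩ := Set.mem_mul.1 ha'
    obtain ⟨i', hi', w', hw', rfl⟩ := Set.mem_mul.1 hb'
    rw [PushUp62.commutator_mul_left, commutatorElement_eq_one_iff_mul_comm.2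
      (hE.W_comm h hw hb).symm, mul_one, mul_inv_cancel, one_mul,
      PushUp62.commutator_mul_right, commutatorElement_eq_one_iff_mul_comm.2 (hE.W_comm h hw' hi.1),
      mul_one, mul_inv_cancel, mul_one, commutatorElement_def]
    exact mul_mem (mul_mem (mul_mem hi hi') (inv_mem hi)) (inv_mem hi')
  refine hQ.trans (sup_le inf_le_right (sup_le ?_ hZ))
  rw [hX]; exact hF.module_le_blockQ

include hE hF in
/-- Small blocks normalising each other with the same module: one contains the other. -/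
theorem le_of_module_eq (hG : centralizer (pCore p G : Set G) ≤ pCore p G) [P.Normal]
    (hP : ∀ g ∈ P, ∃ j, g ^ (5 - p) ^ j ∈ pCore p G) (hEP : E ≤ P) (hFP : F ≤ P)
    (hEF : E ≤ normalizer (F : Set G)) (hFE : F ≤ normalizer (E : Set G))
    (hX : blockModule p E = blockModule p F) : F ≤ E := by
  have hQ : blockQ p F ≤ blockQ p E := by
    rcases hF.alt with h | h
    · rw [h, ← hX]; exact hE.module_le_blockQ
    · exact core_le_of_exc hF hE hFE hEF hX.symm h
  refine le_of_coprime hF.res fun f hf hfp => ?_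
  refine mem_of_coprime_mem_sup Thompson.isPGroup_pCore hE.normM ?_ hfp
  obtain ⟨e, he, hk⟩ := exists_agree hE hF hX hf
  have hkR : e⁻¹ * f ∈ rigidSet p E P := by
    rw [mem_rigidSet]
    have hN : e⁻¹ * f ∈ normalizer (E : Set G) := mul_mem (le_normalizer (inv_mem he)) (hFE hf)
    refine ⟨⟨⟨normalizer_le_blockQ E hN, fun m hm => ?_⟩, hk⟩, hN,
      P.mul_mem (hEP (E.inv_mem he)) (hFP hf)⟩
    rw [PushUp62.commutator_mul_left]
    exact mul_mem ((mem_normalizer_iff.1 (normalizer_le_blockQ E (le_normalizer (inv_mem he))) _).1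
      (hQ (hF.comm_mem_blockQ hf hm))) (hE.comm_mem_blockQ (inv_mem he) hm)
  obtain ⟨j, hj⟩ := hP _ (mem_rigidSet.1 hkR).2.2
  obtain ⟨k', hk', hk'p, hkk⟩ := exists_coprime_part (coprime_q hE.two_or_three) hj
  have : k' = 1 := eq_one_of_rigid hG hP hE (zpowers_le.2 hkR hk') hk'p
  rw [this, zpowers_one_eq_bot, bot_sup_eq] at hkk
  rw [show f = e * (e⁻¹ * f) by group]
  exact mul_mem (mem_sup_left he) (mem_sup_right hkk)

include hE hF in
/-- Small blocks normalising each other with the same module are equal. -/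
theorem eq_of_module_eq (hG : centralizer (pCore p G : Set G) ≤ pCore p G) [P.Normal]
    (hP : ∀ g ∈ P, ∃ j, g ^ (5 - p) ^ j ∈ pCore p G) (hEP : E ≤ P) (hFP : F ≤ P)
    (hEF : E ≤ normalizer (F : Set G)) (hFE : F ≤ normalizer (E : Set G))
    (hX : blockModule p E = blockModule p F) : E = F :=
  le_antisymm (le_of_module_eq hF hE hG hP hFP hEP hFE hEF hX.symm)
    (le_of_module_eq hE hF hG hP hEP hFP hEF hFE hX)

end Cfsg.Agent.LAE65.Pair
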