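import Mathlib
import Cfsg.Agent.LAE65.Basic

/-!
Perfect groups commuting with an irreducible action on an abelian section act trivially on it.
-/

set_option autoImplicit false
set_option linter.style.haveILetI false

open Subgroup
open scoped commutatorElement

namespace Cfsg.Agent.LAE65.Pair

/-- The endomorphisms commuting with an irreducible set of endomorphisms of a finite abelian group
commute with each other. -/
theorem centralizer_comm {A : Type*} [AddCommGroup A] [Finite A] (s : Set (AddMonoid.End A))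
    (hirr : ∀ U : AddSubgroup A, (∀ σ ∈ s, ∀ u ∈ U, σ u ∈ U) → U = ⊥ ∨ U = ⊤)
    {x y : AddMonoid.End A} (hx : x ∈ Subring.centralizer s) (hy : y ∈ Subring.centralizer s) :
    x * y = y * x := by
  rcases subsingleton_or_nontrivial A with hA | hA
  · exact AddMonoidHom.ext fun a => Subsingleton.elim _ _
  set D := Subring.centralizer s with hD
  haveI : Finite (AddMonoid.End A) := Finite.of_injective (fun f => (f : A → A)) DFunLike.coe_injective
  haveI : Nontrivial D := ⟨⟨0, 1, fun h => by
    obtain ⟨a, ha⟩ := exists_ne (0 : A)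
    exact ha (DFunLike.congr_fun (congrArg Subtype.val h) a).symm⟩⟩
  haveI : NoZeroDivisors D := ⟨fun {a b} hab => by
    by_cases hb : b = 0
    · exact Or.inr hb
    left
    rcases hirr (b : AddMonoid.End A).range (fun σ hσ u hu => by
      obtain ⟨w, rfl⟩ := hu
      refine ⟨σ w, ?_⟩
      exact (DFunLike.congr_fun (Subring.mem_centralizer_iff.1 b.2 σ hσ) w).symm) with h | h
    · refine absurd (Subtype.ext (AddMonoidHom.ext fun w => ?_)) hb
      have : (b : AddMonoid.End A) w ∈ (⊥ : AddSubgroup A) := h ▸ ⟨w, rfl⟩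
      exact this
    · refine Subtype.ext (AddMonoidHom.ext fun w => ?_)
      obtain ⟨v, hv⟩ : w ∈ (b : AddMonoid.End A).range := h ▸ AddSubgroup.mem_top w
      rw [← hv]
      exact DFunLike.congr_fun (congrArg Subtype.val hab) v⟩
  haveI : IsDomain D := NoZeroDivisors.to_isDomain D
  exact congrArg Subtype.val ((Finite.isDomain_to_isField D).mul_comm ⟨x, hx⟩ ⟨y, hy⟩)

variable {G : Type*} [Group G] [Finite G]

/-- Irreducibility of the section `A / B` under conjugation by `E`. -/
def Irr (E A B : Subgroup G) : Prop :=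
  ∀ X : Subgroup G, B ≤ X → X ≤ A → E ≤ normalizer (X : Set G) → X = B ∨ X = A

theorem commutator_derived_eq_bot_normal {A E F : Subgroup G} [A.Normal] [IsMulCommutative A]
    (hirr : Irr E A ⊥) (hcomm : ∀ e ∈ E, ∀ f ∈ F, ⁅e, f⁆ ∈ centralizer (A : Set G)) :
    ⁅A, ⁅F, F⁆⁆ = ⊥ := by
  open scoped IsMulCommutative in
  let φ : G →* AddMonoid.End (Additive A) :=
    { toFun := fun g => MonoidHom.toAdditive (MulAut.conjNormal g : A ≃* A).toMonoidHom
      map_one' := AddMonoidHom.ext fun a => congrArg Additive.ofMul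
        (DFunLike.congr_fun (map_one (MulAut.conjNormal (H := A))) (Additive.toMul a))
      map_mul' := fun g h => AddMonoidHom.ext fun a => congrArg Additive.ofMul
        (DFunLike.congr_fun (map_mul (MulAut.conjNormal (H := A)) g h) (Additive.toMul a)) }
  have hφ : ∀ g a, ((Additive.toMul (φ g a) : A) : G) = g * (Additive.toMul a : A) * g⁻¹ :=
    fun g a => MulAut.conjNormal_apply g _
  have hφC : ∀ g, g ∈ centralizer (A : Set G) → φ g = 1 := by
    intro g hg
    refine AddMonoidHom.ext fun a => ?_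
    apply Additive.toMul.injective
    apply Subtype.ext
    refine (hφ g a).trans ?_
    show g * _ * g⁻¹ = ((Additive.toMul a : A) : G)
    rw [← mem_centralizer_iff.1 hg _ (Additive.toMul a : A).2]
    simp
  have hmem : ∀ f ∈ F, φ f ∈ Subring.centralizer (φ '' (E : Set G)) := by
    intro f hf
    rw [Subring.mem_centralizer_iff]
    rintro _ ⟨e, he, rfl⟩
    have h : e * f = ⁅e, f⁆ * (f * e) := by rw [commutatorElement_def]; group
    rw [← map_mul, ← map_mul, h, map_mul, hφC _ (hcomm e he f hf), one_mul]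
  have hirr' : ∀ U : AddSubgroup (Additive A),
      (∀ σ ∈ φ '' (E : Set G), ∀ u ∈ U, σ u ∈ U) → U = ⊥ ∨ U = ⊤ := by
    intro U hU
    set X := (AddSubgroup.toSubgroup' U).map A.subtype with hX
    have hmemX : ∀ a : A, (a : G) ∈ X ↔ Additive.ofMul a ∈ U := fun a => by
      rw [hX]
      exact ⟨fun ⟨b, hb, hba⟩ => Subtype.ext hba ▸ hb, fun h => ⟨a, h, rfl⟩⟩
    have hEX : E ≤ normalizer (X : Set G) := by
      intro e he
      rw [mem_normalizer_iff_map]
      refine eq_of_le_of_card_ge ?_ (card_map_conj X e).ge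
      rintro _ ⟨y, ⟨a, ha, rfl⟩, rfl⟩
      have := hU _ ⟨e, he, rfl⟩ (Additive.ofMul a) ha
      show e * (a : G) * e⁻¹ ∈ X
      rw [show e * (a : G) * e⁻¹ = ((Additive.toMul (φ e (Additive.ofMul a)) : A) : G) from
        (hφ e (Additive.ofMul a)).symm, hmemX]
      exact this
    rcases hirr X bot_le (map_subtype_le _) hEX with h | h
    · left
      rw [eq_bot_iff]
      intro u hu
      have : ((Additive.toMul u : A) : G) ∈ X := (hmemX _).2 hu
      rw [h, mem_bot] at this
      exact Additive.toMul.injective (Subtype.ext this)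
    · right
      rw [eq_top_iff]
      intro u _
      exact (hmemX (Additive.toMul u)).1 (h.symm ▸ (Additive.toMul u : A).2)
  have hker : ∀ g, φ g = 1 → g ∈ centralizer (A : Set G) := by
    intro g hg
    rw [mem_centralizer_iff]
    intro a ha
    have := hφ g (Additive.ofMul ⟨a, ha⟩)
    rw [hg] at this
    change a = g * a * g⁻¹ at this
    conv_lhs => rw [this]
    simp
  rw [commutator_eq_bot_iff_le_centralizer, le_centralizer_iff, commutator_le]
  intro f hf f' hf'
  apply hker
  have hc := centralizer_comm _ hirr' (hmem f hf) (hmem f' hf')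
  calc φ ⁅f, f'⁆ = φ f * φ f' * φ f⁻¹ * φ f'⁻¹ := by simp only [commutatorElement_def, map_mul]
    _ = φ f' * φ f * φ f⁻¹ * φ f'⁻¹ := by rw [hc]
    _ = φ (f' * f * f⁻¹ * f'⁻¹) := by simp only [map_mul]
    _ = 1 := by simp

/-- A group commuting with an irreducible action on an abelian section acts abelianly on it. -/
theorem commutator_derived_le {A B E F : Subgroup G} (hBA : B ≤ A) (hab : ⁅A, A⁆ ≤ B)
    (hAB : A ≤ normalizer (B : Set G))
    (hEA : E ≤ normalizer (A : Set G)) (hEB : E ≤ normalizer (B : Set G))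
    (hFA : F ≤ normalizer (A : Set G)) (hFB : F ≤ normalizer (B : Set G))
    (hirr : Irr E A B) (hcomm : ∀ e ∈ E, ∀ f ∈ F, ∀ a ∈ A, ⁅⁅e, f⁆, a⁆ ∈ B) :
    ⁅A, ⁅F, F⁆⁆ ≤ B := by
  set L := normalizer (A : Set G) ⊓ normalizer (B : Set G) with hL
  have hAL : A ≤ L := le_inf le_normalizer hAB
  have hBL : B ≤ L := hBA.trans hAL
  have hEL : E ≤ L := le_inf hEA hEB
  have hFL : F ≤ L := le_inf hFA hFB
  haveI : (B.subgroupOf L).Normal :=
    (normal_subgroupOf_iff_le_normalizer hBL).2 inf_le_right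
  haveI : (A.subgroupOf L).Normal :=
    (normal_subgroupOf_iff_le_normalizer hAL).2 inf_le_left
  set π := QuotientGroup.mk' (B.subgroupOf L) with hπ
  have hπs : Function.Surjective π := QuotientGroup.mk'_surjective _
  have hπ1 : ∀ x : L, π x = 1 ↔ (x : G) ∈ B := fun x => QuotientGroup.eq_one_iff x
  set A' := (A.subgroupOf L).map π with hA'
  haveI : A'.Normal := Normal.map inferInstance π hπs
  haveI : IsMulCommutative A' := by
    rw [← le_centralizer_iff_isMulCommutative, ← commutator_eq_bot_iff_le_centralizer, hA',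
      ← map_commutator, Subgroup.map_eq_bot_iff, QuotientGroup.ker_mk', commutator_le]
    exact fun x hx y hy => hab (commutator_mem_commutator hx hy)
  have hirr' : Irr (G := L ⧸ B.subgroupOf L) ((E.subgroupOf L).map π) A' ⊥ := by
    intro X _ hXA hEX
    set Y := (X.comap π).map L.subtype with hY
    have hBY : B ≤ Y := fun b hb => ⟨⟨b, hBL hb⟩, by
      show π ⟨b, hBL hb⟩ ∈ X
      rw [(hπ1 _).2 hb]; exact X.one_mem, rfl⟩
    have hYA : Y ≤ A := by
      rintro _ ⟨y, hy, rfl⟩
      obtain ⟨a, ha, he⟩ := hXA hy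
      have h2 : π (a⁻¹ * y) = 1 := by rw [map_mul, map_inv, he, inv_mul_cancel]
      have := A.mul_mem (mem_subgroupOf.1 ha) (hBA ((hπ1 _).1 h2))
      simpa using this
    have hEY : E ≤ normalizer (Y : Set G) := by
      intro e he
      rw [mem_normalizer_iff_map]
      refine eq_of_le_of_card_ge ?_ (card_map_conj Y e).ge
      rintro _ ⟨_, ⟨y, hy, rfl⟩, rfl⟩
      refine ⟨⟨e, hEL he⟩ * y * ⟨e, hEL he⟩⁻¹, ?_, by simp⟩
      show π _ ∈ X
      rw [map_mul, map_mul, map_inv]
      exact (mem_normalizer_iff.1 (hEX ⟨⟨e, hEL he⟩, he, rfl⟩) _).1 hy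
    rcases hirr Y hBY hYA hEY with h | h
    · left
      rw [eq_bot_iff]
      intro x hx
      obtain ⟨y, rfl⟩ := hπs x
      have : (y : G) ∈ Y := ⟨y, hx, rfl⟩
      rw [h] at this
      exact mem_bot.2 ((hπ1 y).2 this)
    · right
      refine le_antisymm hXA ?_
      rintro _ ⟨a, ha, rfl⟩
      obtain ⟨y, hy, he⟩ := (h.symm ▸ mem_subgroupOf.1 ha : (a : G) ∈ Y)
      rw [← L.subtype_injective (a₁ := y) (a₂ := a) he]
      exact hy
  have key := commutator_derived_eq_bot_normal (A := A') hirr' (F := (F.subgroupOf L).map π) ?_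
  · rw [commutator_le]
    intro a ha f hf
    have hfL : f ∈ L := (commutator_le.2 fun x hx y hy =>
      mul_mem (mul_mem (mul_mem (hFL hx) (hFL hy)) (inv_mem (hFL hx))) (inv_mem (hFL hy))) hf
    have hf' : (⟨f, hfL⟩ : L) ∈ ⁅F.subgroupOf L, F.subgroupOf L⁆ := by
      rw [← mem_map_iff_mem L.subtype_injective, map_commutator, subgroupOf_map_subtype,
        inf_eq_left.2 hFL]
      exact hf
    have : ⁅π ⟨a, hAL ha⟩, π ⟨f, hfL⟩⁆ ∈ (⊥ : Subgroup (L ⧸ B.subgroupOf L)) := key ▸
      commutator_mem_commutator (mem_map_of_mem π (show (⟨a, hAL ha⟩ : L) ∈ A.subgroupOf L from ha))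
        (map_commutator (F.subgroupOf L) (F.subgroupOf L) π ▸ mem_map_of_mem π hf')
    rw [← map_commutatorElement, mem_bot, hπ1] at this
    exact this
  · rintro _ ⟨e, he, rfl⟩ _ ⟨f, hf, rfl⟩
    rw [mem_centralizer_iff_commutator_eq_one]
    rintro _ ⟨a, ha, rfl⟩
    rw [← map_commutatorElement, ← map_commutatorElement, hπ1]
    have h := B.inv_mem (hcomm e he f hf a ha)
    rw [commutatorElement_inv] at h
    exact h

/-- A perfect group commuting with an irreducible action on an abelian section centralises it. -/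
theorem commutator_le_of_perfect {A B E F : Subgroup G} (hBA : B ≤ A) (hab : ⁅A, A⁆ ≤ B)
    (hAB : A ≤ normalizer (B : Set G))
    (hEA : E ≤ normalizer (A : Set G)) (hEB : E ≤ normalizer (B : Set G))
    (hFA : F ≤ normalizer (A : Set G)) (hFB : F ≤ normalizer (B : Set G))
    (hirr : Irr E A B) (hcomm : ∀ e ∈ E, ∀ f ∈ F, ∀ a ∈ A, ⁅⁅e, f⁆, a⁆ ∈ B)
    (hF : ⁅F, F⁆ = F) : ⁅A, F⁆ ≤ B := by
  have h := commutator_derived_le hBA hab hAB hEA hEB hFA hFB hirr hcomm
  rwa [hF] at h

omit [Finite G] in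
/-- A `p'`-element stabilising a series of a `p`-group centralises it. -/
theorem commute_of_stabilizes {p : ℕ} {x f w : G} (hf : (orderOf f).Coprime p)
    (hx : f * x * f⁻¹ = x * w) (hw : f * w = w * f) (hwp : w ^ p = 1) : f * x = x * f := by
  have key : ∀ k : ℕ, f ^ k * x * (f ^ k)⁻¹ = x * w ^ k := by
    intro k
    induction k with
    | zero => simp
    | succ k ih =>
      have h1 : f * w ^ k * f⁻¹ = w ^ k := by
        rw [(Commute.pow_right hw k).eq, mul_assoc, mul_inv_cancel, mul_one]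
      calc f ^ (k + 1) * x * (f ^ (k + 1))⁻¹ = f * (f ^ k * x * (f ^ k)⁻¹) * f⁻¹ := by
            rw [pow_succ']; group
        _ = (f * x * f⁻¹) * (f * w ^ k * f⁻¹) := by rw [ih]; group
        _ = x * w ^ (k + 1) := by rw [hx, h1, pow_succ', mul_assoc]
  have h := key (orderOf f)
  rw [pow_orderOf_eq_one] at h
  have h2 : w ^ orderOf f = 1 := by simpa using h.symm
  have h3 : orderOf w ∣ Nat.gcd (orderOf f) p :=
    Nat.dvd_gcd (orderOf_dvd_of_pow_eq_one h2) (orderOf_dvd_of_pow_eq_one hwp)
  rw [hf.gcd_eq_one, Nat.dvd_one, orderOf_eq_one_iff] at h3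
  rw [h3, mul_one, mul_inv_eq_iff_eq_mul] at hx
  exact hx

end Cfsg.Agent.LAE65.Pair
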