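import Cfsg.Agent.LAE65.BlockCenter
import Cfsg.Agent.LAE65.Pair.Section
import Cfsg.Agent.H40.BlockEmbed
import Mathlib.GroupTheory.SpecificGroups.Alternating.Simple

/-!
Basic facts about subnormal Baumann blocks: the core, the irreducible sections, and the kernel.
-/

set_option autoImplicit false
set_option linter.style.haveILetI false
set_option linter.unusedSectionVars false

open Subgroup Cfsg
open scoped commutatorElement MatrixGroups

namespace Cfsg.Agent.LAE65.Pair

open Block

variable {G : Type*} [Group G] [Finite G] {p : ℕ} [hp : Fact p.Prime] {T : Sylow p G}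
  {E : Subgroup G}
  (hG : centralizer (pCore p G : Set G) ≤ pCore p G)
  (hE : IsBaumannBlock p (T : Subgroup G) E)

/-- `⁅Ω₁(Z(O_p(G))), E⁆`. -/
abbrev blockModule (p : ℕ) (E : Subgroup G) : Subgroup G :=
  ⁅omegaOneCenter p (pCore p G), E⁆

theorem core_le (E : Subgroup G) : pCoreOf p E ≤ E := map_subtype_le _

theorem isPGroup_core (E : Subgroup G) : IsPGroup p ↥(pCoreOf p E) :=
  Thompson.isPGroup_pCore.map _

theorem le_normalizer_core (E : Subgroup G) : E ≤ normalizer (pCoreOf p E : Set G) := by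
  intro e he
  rw [mem_normalizer_iff_map]
  refine eq_of_le_of_card_ge ?_ (card_map_conj _ e).ge
  rintro _ ⟨_, ⟨q, hq, rfl⟩, rfl⟩
  exact ⟨⟨e, he⟩ * q * ⟨e, he⟩⁻¹, (inferInstance : (pCore p E).Normal).conj_mem q hq _, by simp⟩

theorem core_eq_inf (hEs : E.IsSubnormal) : E ⊓ pCore p G = pCoreOf p E := by
  refine le_antisymm ?_ (le_inf (core_le E) (Thompson.map_pCore_isSubnormal_le hEs))
  exact LocalEven64.le_pCoreOf inf_le_left
    (le_trans (le_inf le_normalizer (le_normalizer_pCore E)) inf_normalizer_le_normalizer_inf)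
    (Thompson.isPGroup_pCore.to_le inf_le_right)

theorem le_normalizer_omega_core (E : Subgroup G) :
    E ≤ normalizer (omegaOneCenter p (pCoreOf p E) : Set G) :=
  (le_normalizer_core E).trans (normalizer_le_normalizer_omegaOneCenter _)

include hE in
theorem eq_bot_of_le_core (h : E ≤ pCoreOf p E) : False := by
  have hb : E ≤ ⊥ := le_of_coprime hE.1 fun x hx hxp =>
    mem_bot.2 (Transfer.eq_one_of_coprime_of_mem (isPGroup_core (p := p) E) (h hx) hxp)
  exact hE.2.2.2.1 (by rw [le_bot_iff.1 hb, commutator_bot_left])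

include hG hE in
theorem irr_omega : Irr E (omegaOneCenter p (pCoreOf p E))
    (omegaOneCenter p (pCoreOf p E) ⊓ centralizer (E : Set G)) := by
  intro X hZX hXW hEX
  by_cases h : X ≤ omegaOneCenter p (pCoreOf p E) ⊓ centralizer (E : Set G)
  · exact Or.inl (le_antisymm h hZX)
  right
  refine le_antisymm hXW (le_trans ?_ (sup_le le_rfl hZX))
  rcases hE.2.2.2.2 with ⟨F, _, _, n, -, -, hact, -⟩ | ⟨-, m, -, hact, -⟩
  · exact sl2_irred hact hXW hEX h
  · exact perm_irred hact hXW hEX h

/-- The data of an exceptional block that is needed. -/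
structure Exceptional (p : ℕ) (E : Subgroup G) : Prop where
  three : p = 3
  irr : Irr E (pCoreOf p E) (omegaOneCenter p (pCoreOf p E))
  derived : ⁅pCoreOf p E, pCoreOf p E⁆ = omegaOneCenter p (pCoreOf p E) ⊓ centralizer (E : Set G)
  derived_ne : ⁅pCoreOf p E, pCoreOf p E⁆ ≠ ⊥

include hG hE in
theorem core_cases : pCoreOf p E = blockModule p E ∨ Exceptional p E := by
  have hf := moduleFacts hG hE
  have hlin : pCoreOf p E = omegaOneCenter p (pCoreOf p E) → pCoreOf p E = blockModule p E := by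
    intro h
    conv_lhs => rw [← hE.2.2.1, h]
    exact hf.eq
  rcases hE.2.2.2.2 with ⟨F, _, _, n, hn, -, -, hq | ⟨h3, hact, hder, -, hZE, hcard, -⟩⟩ |
    ⟨-, m, -, -, hq⟩
  · exact Or.inl (hlin hq)
  · refine Or.inr ⟨h3, ?_, hder, ?_⟩
    · intro X hWX hXQ hEX
      by_cases h : X ≤ omegaOneCenter p (pCoreOf p E)
      · exact Or.inl (le_antisymm h hWX)
      right
      exact le_antisymm hXQ ((sl2_irred hact hXQ hEX h).trans (sup_le le_rfl hWX))
    · rw [hder, ← hZE]
      intro hb
      rw [hb, card_bot] at hcard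
      have hn0 : n = 0 := by
        by_contra hn0
        exact absurd hcard.symm (Nat.one_lt_pow hn0 (by norm_num)).ne'
      rw [hn0, pow_zero] at hn
      exact absurd hn Fintype.one_lt_card.ne'
  · exact Or.inl (hlin hq)

/-- A homomorphism from `E` whose kernel contains `O_p(E)` and whose range has the order of
`E / O_p(E)` has kernel `O_p(E)`. -/
theorem ker_eq_core {R : Type*} [Group R] (ρ : ↥E →* R) (hle : pCore p ↥E ≤ ρ.ker)
    (hc : Nat.card ρ.range = Nat.card (↥E ⧸ pCore p ↥E)) : ρ.ker = pCore p ↥E := by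
  refine (eq_of_le_of_card_ge hle ?_).symm
  have h1 : Nat.card (↥E ⧸ ρ.ker) = Nat.card ρ.range :=
    Nat.card_congr (QuotientGroup.quotientKerEquivRange ρ).toEquiv
  have h2 := Subgroup.card_eq_card_quotient_mul_card_subgroup ρ.ker
  have h3 := Subgroup.card_eq_card_quotient_mul_card_subgroup (pCore p ↥E)
  rw [h1, hc] at h2
  exact (Nat.eq_of_mul_eq_mul_left Nat.card_pos (h2.symm.trans h3)).le

include hG hE in
/-- An element of `E` centralising the module lies in the core. -/
theorem mem_core_of_centralizes {e : G} (he : e ∈ E)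
    (hx : ∀ x ∈ blockModule p E, e * x = x * e) : e ∈ pCoreOf p E := by
  have hf := moduleFacts hG hE
  set W := omegaOneCenter p (pCoreOf p E) with hW
  have hW' : ∀ w ∈ W, e * w = w * e := by
    have hle : W ≤ centralizer ({e} : Set G) := hf.sup_eq.trans (sup_le
      (fun x hx' => mem_centralizer_singleton.2 (hx x hx').symm)
      (fun z hz => mem_centralizer_singleton.2 (mem_centralizer_iff.1 hz.2 e he).symm))
    exact fun w hw => (mem_centralizer_singleton.1 (hle hw)).symm
  have hcW : ∀ q ∈ pCoreOf p E, ∀ w ∈ W, q * w = w * q := fun q hq w hw =>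
    mem_centralizer_iff.1 (omegaOneCenter_le_centralizer _ hw) q hq
  suffices h : (⟨e, he⟩ : E) ∈ pCore p ↥E from ⟨_, h, rfl⟩
  rcases hE.2.2.2.2 with ⟨F, _, _, n, -, hiso, hact, -⟩ | ⟨-, m, hiso, hact, -⟩
  · obtain ⟨-, -, ρ, ψ, hρ, hψ, -, heq⟩ := hact
    have triv : ∀ e' : E, (∀ w ∈ W, (e' : G) * w = w * e') → e' ∈ ρ.ker := by
      intro e' h'
      rw [MonoidHom.mem_ker]
      have hv : ∀ v, ((ρ e' : SL(2, F)) : Matrix (Fin 2) (Fin 2) F).mulVec v = v := by
        intro v
        obtain ⟨u, hu⟩ := hψ (Multiplicative.ofAdd v)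
        obtain ⟨w, hw, hw'⟩ := heq e' u
        have : w = u := Subtype.ext (by rw [hw, h' u u.2]; simp)
        rw [this, hu, toAdd_ofAdd] at hw'
        exact hw'.symm
      apply Subtype.ext
      exact Matrix.ext_of_mulVec_single fun i => by rw [hv, Matrix.SpecialLinearGroup.coe_one, Matrix.one_mulVec]
    obtain ⟨iso⟩ := hiso
    rw [← ker_eq_core ρ (fun q hq => triv q (hcW _ ⟨q, hq, rfl⟩))
      (by rw [hρ]; exact (Nat.card_congr iso.toEquiv).symm)]
    exact triv _ hW'
  · obtain ⟨-, -, ρ, ψ, hρ, -, hsurj, -, heq⟩ := hact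
    obtain ⟨iso⟩ := hiso
    have triv : ∀ e' : E, (∀ w ∈ W, (e' : G) * w = w * e') → e' ∈ ρ.ker := by
      intro e' h'
      rw [MonoidHom.mem_ker]
      by_contra hne
      obtain ⟨a, ha⟩ : ∃ a, (ρ e')⁻¹ a ≠ a := by
        by_contra hall
        push Not at hall
        exact hne (inv_eq_one.1 (Equiv.ext hall))
      obtain ⟨c, hca, hcb⟩ : ∃ c, c ≠ a ∧ c ≠ (ρ e')⁻¹ a := by
        have h3 : 3 ≤ 2 * m + 1 := by
          rcases Nat.eq_zero_or_pos m with rfl | hm
          · exact absurd (Fin.ext (by omega)) ha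
          · omega
        obtain ⟨c, -, hc⟩ := Finset.exists_mem_notMem_of_card_lt_card
          (s := ({a, (ρ e')⁻¹ a} : Finset _)) (t := Finset.univ)
          (by rw [Finset.card_univ, Fintype.card_fin]; exact lt_of_le_of_lt Finset.card_le_two h3)
        exact ⟨c, fun h => hc (by simp [h]), fun h => hc (by simp [h])⟩
      obtain ⟨u, hu⟩ := hsurj (Pi.single a 1 + Pi.single c 1) (by
        simp [Finset.sum_add_distrib]; decide)
      obtain ⟨w, hw, hw'⟩ := heq e' u
      have : w = u := Subtype.ext (by rw [hw, h' u u.2]; simp)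
      have h0 := hw' a
      rw [this, hu] at h0
      rw [Pi.add_apply, Pi.add_apply, Pi.single_eq_same, Pi.single_eq_of_ne hca.symm,
        Pi.single_eq_of_ne ha, Pi.single_eq_of_ne hcb.symm] at h0
      exact absurd h0 (by decide)
    rw [← ker_eq_core ρ (fun q hq => triv q (hcW _ ⟨q, hq, rfl⟩))
      (by rw [hρ]; exact (Nat.card_congr iso.toEquiv).symm)]
    exact triv _ hW'

include hE in
theorem perfect_of_quotient (hperf : commutator (↥E ⧸ pCore p ↥E) = ⊤) : ⁅E, E⁆ = E := by
  refine le_antisymm (commutator_le.2 fun a ha b hb =>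
    mul_mem (mul_mem (mul_mem ha hb) (inv_mem ha)) (inv_mem hb)) ?_
  have hQ : pCoreOf p E ≤ ⁅E, E⁆ := by
    conv_lhs => rw [← hE.2.2.1]
    exact commutator_mono (core_le E) le_rfl
  have h1 : commutator ↥E ⊔ pCore p ↥E = ⊤ := by
    have h2 := congrArg (comap (QuotientGroup.mk' (pCore p ↥E))) hperf
    rw [commutator_def, ← map_top_of_surjective _ (QuotientGroup.mk'_surjective (pCore p ↥E)),
      ← map_commutator, comap_map_eq, comap_map_eq, QuotientGroup.ker_mk'] at h2
    rw [commutator_def, h2, top_sup_eq]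
  have h3 := congrArg (map E.subtype) h1
  rw [Subgroup.map_sup, map_subtype_commutator, ← MonoidHom.range_eq_map, range_subtype] at h3
  conv_lhs => rw [← h3]
  exact sup_le le_rfl hQ

theorem isQuasisimple_of_sl {F : Type} [Field F] [Fintype F] (hF : 4 ≤ Fintype.card F)
    (h : Nonempty (↥E ⧸ pCore p ↥E ≃* ↥(commutator SL(2, F)))) :
    IsQuasisimple (↥E ⧸ pCore p ↥E) := by
  classical
  have hex : Fintype.card (Fin 2) = 2 → ∃ a : F, a ≠ 0 ∧ a ^ 2 ≠ 1 := fun _ => by
    by_contra hcon
    push Not at hcon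
    have hsub : (Finset.univ : Finset F) ⊆ {0, 1, -1} := fun a _ => by
      by_cases ha : a = 0
      · simp [ha]
      · rcases sq_eq_one_iff.1 (hcon a ha) with rfl | rfl <;> simp
    have := Finset.card_le_card hsub
    have h3 : ({0, 1, -1} : Finset F).card ≤ 3 := Finset.card_le_three
    rw [Finset.card_univ] at this
    omega
  obtain ⟨iso⟩ := h
  refine (Components.isQuasisimple_congr iso).2 ?_
  rw [LinearGroup.commutator_SL_eq_top' hex]
  exact (Components.isQuasisimple_congr Subgroup.topEquiv).2 (H40.isQuasisimple_SL hex)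

theorem isQuasisimple_of_alt {m : ℕ} (hm : 2 ≤ m)
    (h : Nonempty (↥E ⧸ pCore p ↥E ≃* ↥(alternatingGroup (Fin (2 * m + 1))))) :
    IsQuasisimple (↥E ⧸ pCore p ↥E) := by
  obtain ⟨iso⟩ := h
  refine (Components.isQuasisimple_congr iso).2 ?_
  haveI := alternatingGroup.isSimpleGroup (α := Fin (2 * m + 1)) (by simp; omega)
  refine Components.isQuasisimple_of_isSimpleGroup fun hc => ?_
  have := alternatingGroup.center_eq_bot (α := Fin (2 * m + 1)) (by simp; omega)
  rw [eq_bot_iff] at this
  have htop : (⊤ : Subgroup (alternatingGroup (Fin (2 * m + 1)))) ≤ ⊥ := fun x _ =>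
    this (mem_center_iff.2 fun y => hc.1.1 y x)
  exact absurd htop (by simp)

end Cfsg.Agent.LAE65.Pair
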