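import Cfsg.Agent.SL2Tor.SL23
import Cfsg.Agent.LAE65.BlockIrred
import Cfsg.Prelude.Def_BaumannBlocks

/-!
The derived group of `SL₂` over the fields with two and three elements, as sets of matrices.
-/

set_option autoImplicit false
set_option maxRecDepth 100000

open Matrix Subgroup Cfsg
open scoped commutatorElement MatrixGroups

namespace Cfsg.Agent.LAE65.Pair

/-- The matrices in the derived group of `SL₂(p)`, for `p = 2, 3`. -/
def InR (p : ℕ) (M : Matrix (Fin 2) (Fin 2) (ZMod p)) : Prop := M.det = 1 ∧ M ^ (p + 1) = 1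

instance (p : ℕ) (M : Matrix (Fin 2) (Fin 2) (ZMod p)) : Decidable (InR p M) := by
  unfold InR; infer_instance

theorem two_semireg : ∀ M : Matrix (Fin 2) (Fin 2) (ZMod 2), InR 2 M →
    ∀ v, M *ᵥ v = v → v ≠ 0 → M = 1 := by decide +kernel

theorem three_semireg : ∀ M : Matrix (Fin 2) (Fin 2) (ZMod 3), InR 3 M →
    ∀ v, M *ᵥ v = v → v ≠ 0 → M = 1 := by decide +kernel

theorem two_trans' : ∀ v w : Fin 2 → ZMod 2, (v = 0 ∨ w = 0) ∨
    ∃ M : Matrix (Fin 2) (Fin 2) (ZMod 2), InR 2 M ∧ M *ᵥ v = w := by decide +kernel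

theorem three_trans' : ∀ v w : Fin 2 → ZMod 3, (v = 0 ∨ w = 0) ∨
    ∃ M : Matrix (Fin 2) (Fin 2) (ZMod 3), InR 3 M ∧ M *ᵥ v = w := by decide +kernel

theorem two_of_cube : ∀ M : Matrix (Fin 2) (Fin 2) (ZMod 2), M ^ 3 = 1 → InR 2 M := by
  decide +kernel

theorem three_of_sq : ∀ M : Matrix (Fin 2) (Fin 2) (ZMod 3),
    M = 1 ∨ M = -1 ∨ M * M = -1 → InR 3 M := by decide +kernel

theorem three_four : ∀ M : Matrix (Fin 2) (Fin 2) (ZMod 3), InR 3 M →
    M = 1 ∨ M = -1 ∨ M * M = -1 := by decide +kernel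

theorem three_exists_sq : ∃ M : Matrix (Fin 2) (Fin 2) (ZMod 3), InR 3 M ∧ M * M = -1 :=
  ⟨!![0, 1; -1, 0], by decide +kernel, by decide +kernel⟩

theorem three_commutant : ∀ M : Matrix (Fin 2) (Fin 2) (ZMod 3),
    (∀ N, InR 3 N → M * N = N * M) → M = 0 ∨ M = 1 ∨ M = -1 := by decide +kernel

theorem three_anti : ∀ N : Matrix (Fin 2) (Fin 2) (ZMod 3), InR 3 N → N * N = -1 →
    ∃ D : Matrix (Fin 2) (Fin 2) (ZMod 3), InR 3 D ∧ D * N = -(N * D) := by decide +kernel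

theorem three_inv_unique : ∀ N : Matrix (Fin 2) (Fin 2) (ZMod 3), InR 3 N → N * N = 1 →
    N = 1 ∨ N = -1 := by decide +kernel

theorem three_neg_ne : (-1 : Matrix (Fin 2) (Fin 2) (ZMod 3)) ≠ 1 := by decide +kernel

theorem three_add : ∀ v : Fin 2 → ZMod 3, v + v + v = 0 := by decide +kernel

theorem three_pow_nine : ∀ M : Matrix (Fin 2) (Fin 2) (ZMod 3), M ^ 9 = 1 → M ^ 3 = 1 := by
  decide +kernel

theorem three_quad : ∀ M : Matrix (Fin 2) (Fin 2) (ZMod 3), M ^ 3 = 1 →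
    (M - 1) * (M - 1) = 0 := by decide +kernel

theorem three_pow_three {M : Matrix (Fin 2) (Fin 2) (ZMod 3)} : ∀ n : ℕ, M ^ 3 ^ n = 1 →
    M ^ 3 = 1 := by
  intro n
  induction n with
  | zero => intro h; rw [pow_zero, pow_one] at h; rw [h, one_pow]
  | succ n ih =>
    intro h
    rcases n with _ | m
    · simpa using h
    · refine ih ?_
      rw [pow_succ 3 m, pow_mul]
      refine three_pow_nine _ ?_
      rw [← pow_mul, show 3 ^ m * 9 = 3 ^ (m + 1 + 1) by ring]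
      exact h

theorem semireg {p : ℕ} (hp : p = 2 ∨ p = 3) {M : Matrix (Fin 2) (Fin 2) (ZMod p)} (hM : InR p M)
    {v : Fin 2 → ZMod p} (h : M *ᵥ v = v) (hv : v ≠ 0) : M = 1 := by
  rcases hp with rfl | rfl
  exacts [two_semireg M hM v h hv, three_semireg M hM v h hv]

theorem transitive {p : ℕ} (hp : p = 2 ∨ p = 3) {v w : Fin 2 → ZMod p} (hv : v ≠ 0) (hw : w ≠ 0) :
    ∃ M : Matrix (Fin 2) (Fin 2) (ZMod p), InR p M ∧ M *ᵥ v = w := by
  rcases hp with rfl | rfl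
  · exact (two_trans' v w).resolve_left (by simp [hv, hw])
  · exact (three_trans' v w).resolve_left (by simp [hv, hw])

theorem exists_ne_one {p : ℕ} (hp : p = 2 ∨ p = 3) :
    ∃ M : Matrix (Fin 2) (Fin 2) (ZMod p), InR p M ∧ M ≠ 1 := by
  rcases hp with rfl | rfl
  · exact ⟨!![0, 1; 1, 1], by decide +kernel, by decide +kernel⟩
  · exact ⟨!![0, 1; -1, 0], by decide +kernel, by decide +kernel⟩

theorem three_one_ne : (1 : ZMod 3) ≠ 0 := by decide +kernel

theorem two_mem_commutator : ∀ g : SL(2, ZMod 2), g ^ 3 = 1 → ∃ a b : SL(2, ZMod 2), ⁅a, b⁆ = g := by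
  decide +kernel

theorem two_commutator_pow : ∀ a b : SL(2, ZMod 2), ⁅a, b⁆ ^ 3 = 1 := by decide +kernel

theorem two_pow_mul : ∀ a b : SL(2, ZMod 2), a ^ 3 = 1 → b ^ 3 = 1 → (a * b) ^ 3 = 1 := by
  decide +kernel

theorem mem_commutator_iff {p : ℕ} (hp : p = 2 ∨ p = 3) (g : SL(2, ZMod p)) :
    g ∈ commutator SL(2, ZMod p) ↔ g ^ (p + 1) = 1 := by
  rcases hp with rfl | rfl
  · let H : Subgroup SL(2, ZMod 2) :=
      { carrier := {g | g ^ 3 = 1}
        one_mem' := one_pow 3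
        mul_mem' := fun {a b} ha hb => two_pow_mul a b ha hb
        inv_mem' := fun {a} ha => by show a⁻¹ ^ 3 = 1; rw [inv_pow, ha, inv_one] }
    constructor
    · intro h
      have : commutator SL(2, ZMod 2) ≤ H := by
        rw [commutator_def, Subgroup.commutator_le]
        exact fun a _ b _ => two_commutator_pow a b
      exact this h
    · intro h
      obtain ⟨a, b, rfl⟩ := two_mem_commutator g h
      exact Subgroup.commutator_mem_commutator (Subgroup.mem_top a) (Subgroup.mem_top b)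
  · rw [show commutator SL(2, ZMod 3) = SL2Tor.quatSub from SL2Tor.commutator_eq_quatSub]
    exact Iff.rfl

theorem inR_iff {p : ℕ} (hp : p = 2 ∨ p = 3) (M : Matrix (Fin 2) (Fin 2) (ZMod p)) :
    InR p M ↔ ∃ g ∈ commutator SL(2, ZMod p), (g : Matrix (Fin 2) (Fin 2) (ZMod p)) = M := by
  constructor
  · rintro ⟨hd, hM⟩
    let g : SL(2, ZMod p) := ⟨M, hd⟩
    refine ⟨g, (mem_commutator_iff hp g).2 (Subtype.ext ?_), rfl⟩
    exact (Matrix.SpecialLinearGroup.coe_pow g _).trans hM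
  · rintro ⟨g, hg, rfl⟩
    refine ⟨g.2, ?_⟩
    rw [← Matrix.SpecialLinearGroup.coe_pow, (mem_commutator_iff hp g).1 hg,
      Matrix.SpecialLinearGroup.coe_one]

/-- The matrix of a permutation of three letters on the even-weight vectors. -/
def permMat (σ : Equiv.Perm (Fin 3)) : Matrix (Fin 2) (Fin 2) (ZMod 2) :=
  Matrix.of fun i j => (![![1, 0, 1], ![0, 1, 1]] : Fin 2 → Fin 3 → ZMod 2) j (σ⁻¹ i.castSucc)

theorem permMat_one_iff : ∀ σ : Equiv.Perm (Fin 3), permMat σ = 1 → σ = 1 := by decide +kernel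

theorem permMat_one : permMat 1 = 1 := by decide +kernel

theorem permMat_mem : ∀ σ : Equiv.Perm (Fin 3), Equiv.Perm.sign σ = 1 →
    InR 2 (permMat σ) := by decide +kernel

theorem permMat_surj : ∀ M : Matrix (Fin 2) (Fin 2) (ZMod 2), InR 2 M →
    ∃ σ : Equiv.Perm (Fin 3), Equiv.Perm.sign σ = 1 ∧ permMat σ = M := by decide +kernel

theorem permMat_mulVec : ∀ (σ : Equiv.Perm (Fin 3)) (v : Fin 3 → ZMod 2), v 0 + v 1 + v 2 = 0 →
    (fun i : Fin 2 => v (σ⁻¹ i.castSucc)) = permMat σ *ᵥ (fun i : Fin 2 => v i.castSucc) := by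
  decide +kernel

theorem even_ext : ∀ v : Fin 3 → ZMod 2, v 0 + v 1 + v 2 = 0 → v 0 = 0 → v 1 = 0 → v = 0 := by
  decide +kernel

theorem even_lift : ∀ v : Fin 2 → ZMod 2, v 0 + v 1 + (v 0 + v 1) = 0 := by decide +kernel

end Cfsg.Agent.LAE65.Pair
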