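import Cfsg.Agent.LAE65.Pair.Disjoint

/-!
Two small subnormal blocks are equal or commute.
-/

set_option autoImplicit false
set_option linter.style.haveILetI false
set_option linter.unusedSectionVars false
set_option maxHeartbeats 800000

open Subgroup Cfsg
open scoped commutatorElement Pointwise Matrix

namespace Cfsg.Agent.LAE65.Pair

open Block

variable {G : Type*} [Group G] [Finite G] {p : ℕ} [hp : Fact p.Prime] {E F P : Subgroup G}

theorem module_map (E : Subgroup G) (g : G) :
    (blockModule p E).map (MulAut.conj g).toMonoidHom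
      = blockModule p (E.map (MulAut.conj g).toMonoidHom) := by
  rw [blockModule, blockModule, map_commutator,
    mem_normalizer_iff_map.1 (le_normalizer_omegaPCore (p := p) ⊤ (mem_top g))]

theorem blockQ_map (E : Subgroup G) (g : G) :
    (blockQ p E).map (MulAut.conj g).toMonoidHom = blockQ p (E.map (MulAut.conj g).toMonoidHom) := by
  rw [blockQ, blockQ, map_inf _ _ _ (MulAut.conj g).injective,
    mem_normalizer_iff_map.1 (mem_normalizer_core (p := p) g)]

theorem blockZ_map (E : Subgroup G) (g : G) :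
    (blockZ E).map (MulAut.conj g).toMonoidHom = blockZ (E.map (MulAut.conj g).toMonoidHom) :=
  LocalEven64.map_self_centralizer (MulAut.conj g).injective _

theorem Small.conj (hE : Small p E) (g : G) : Small p (E.map (MulAut.conj g).toMonoidHom) := by
  set f := MulAut.conj g with hf
  refine ⟨hE.two_or_three, ?_, ?_, ?_, ?_, ?_⟩
  · have h := Thompson.map_pResidual_equiv (p := p) (E.equivMapOfInjective f.toMonoidHom f.injective)
    rw [pResidualOf, ← h, map_map]
    conv_rhs => rw [← hE.res, pResidualOf, map_map]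
    rfl
  · intro m hm
    rw [mem_normalizer_iff_map, map_conj_mul' E g]
    have hm' : g⁻¹ * m * g ∈ pCore p G := by
      simpa using (mem_normalizer_iff.1 (mem_normalizer_core g⁻¹) m).1 hm
    conv_rhs => rw [← mem_normalizer_iff_map.1 (hE.normM hm')]
    rw [hf, LocalEven62.map_conj_mul, show g * (g⁻¹ * m * g) = m * g by group]
  · rintro _ ⟨e, he, rfl⟩
    obtain ⟨j, hj⟩ := hE.qmod e he
    refine ⟨j, ?_⟩
    rw [← map_pow]
    exact (mem_normalizer_iff.1 (mem_normalizer_core g) _).1 hj
  · obtain ⟨S⟩ := hE.secX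
    have := S.map f
    rw [blockQ_map, module_map, Subgroup.map_bot] at this
    exact ⟨this⟩
  · rcases hE.alt with h | h
    · left; rw [← blockQ_map, h, module_map]
    right
    obtain ⟨S⟩ := h.secQ
    obtain ⟨b, hb, ⟨n, hn⟩, hq⟩ := h.nonquad
    refine ⟨h.three, ?_, ?_, ?_, f b, ?_, ⟨n, by rw [← map_pow, hn, map_one]⟩, ?_⟩
    · rw [← blockZ_map, ← mem_normalizer_iff_map.1 (mem_normalizer_core (p := p) g)]
      exact map_mono h.cent_le
    · have := S.map f
      rw [blockW, Subgroup.map_sup, blockQ_map, module_map, blockZ_map] at this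
      exact ⟨this⟩
    · rw [← blockQ_map, ← blockZ_map, ← map_commutator, h.derived]
    · rw [mem_normalizer_iff_map, map_conj_mul' E g, show f b * g = g * b by simp [hf]]
      rw [← LocalEven62.map_conj_mul, mem_normalizer_iff_map.1 hb]
    · intro h'
      apply hq
      rw [← blockQ_map, ← blockZ_map, show f b = f.toMonoidHom b from rfl, ← MonoidHom.map_zpowers f.toMonoidHom, ← map_commutator,
        ← map_commutator] at h'
      exact (map_le_map_iff_of_injective f.injective).1 h'
where
  map_conj_mul' {G : Type _} [Group G] (E : Subgroup G) (g : G) {m : G} :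
      (E.map (MulAut.conj g).toMonoidHom).map (MulAut.conj m).toMonoidHom
        = E.map (MulAut.conj (m * g)).toMonoidHom := LocalEven62.map_conj_mul E m g

/-- Two sections of order `p²` with one inside the other are equal. -/
theorem Small.module_eq_of_le (hE : Small p E) (hF : Small p F)
    (h : blockModule p E ≤ blockModule p F) : blockModule p E = blockModule p F := by
  obtain ⟨S⟩ := hE.secX
  obtain ⟨R⟩ := hF.secX
  refine eq_of_le_of_card_ge h (le_of_eq ?_)
  rw [R.card_eq, S.card_eq]

theorem commute_conj_swap {A B : Subgroup G} (h : ⁅A, B⁆ = ⊥) : B ≤ normalizer (A : Set G) := by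
  rw [commutator_comm, commutator_eq_bot_iff_le_centralizer] at h
  exact h.trans (centralizer_le_normalizer _)

/-- If all `F`-conjugates of `E` equal or commute with it, `F` normalises the module of `E`. -/
theorem normalizer_module (hE : Small p E) (hF : Small p F)
    (hconj : ∀ f ∈ F, E.map (MulAut.conj f).toMonoidHom = E ∨
      ⁅E, E.map (MulAut.conj f).toMonoidHom⁆ = ⊥) :
    F ≤ normalizer (blockModule p E : Set G) := by
  obtain ⟨S⟩ := hE.secX
  obtain ⟨R⟩ := hF.secX
  set X := blockModule p E with hXdef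
  set XF := blockModule p F with hXFdef
  have hVc : ∀ {x y : G}, x ∈ omegaOneCenter p (pCore p G) → y ∈ omegaOneCenter p (pCore p G) →
      x * y = y * x := fun hx hy =>
    (mem_centralizer_iff.1 (omegaOneCenter_le_centralizer _ hy) _ (omegaOneCenter_le _ hx))
  have hM : pCore p G ≤ normalizer (X : Set G) := hE.normM.trans (normalizer_le_blockModule E)
  -- the structure for a given element moving the module
  have key : ∀ f ∈ F, f ∉ normalizer (X : Set G) → f * f ∈ normalizer (X : Set G) ∧
      (∀ v ∈ X, f * v * f⁻¹ = v → v = 1) := by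
    intro f hf hfX
    set E1 := E.map (MulAut.conj f).toMonoidHom with hE1
    set E2 := E.map (MulAut.conj (f * f)).toMonoidHom with hE2
    have hne1 : blockModule p E1 ≠ X := by
      rw [hE1, ← module_map]; exact fun h => hfX (mem_normalizer_iff_map.2 h)
    have hc1 : ⁅E, E1⁆ = ⊥ := (hconj f hf).resolve_left fun h => hne1 (by rw [hE1, h])
    have hn1 : E1 ≤ normalizer (E : Set G) := commute_conj_swap hc1
    have hn1' : E ≤ normalizer (E1 : Set G) := commute_conj_swap (by rwa [commutator_comm] at hc1)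
    have hs1 : Small p E1 := hE.conj f
    have hbot : X ⊓ blockModule p E1 = ⊥ := inf_eq_bot_of_ne hE hn1' fun h =>
      hne1 (hE.module_eq_of_le hs1 h).symm
    have hfree : ∀ v ∈ X, f * v * f⁻¹ = v → v = 1 := fun v hv h => by
      have : v ∈ X ⊓ blockModule p E1 := ⟨hv, by
        rw [hE1, ← module_map]; exact ⟨v, hv, h⟩⟩
      rwa [hbot, mem_bot] at this
    refine ⟨?_, hfree⟩
    by_contra hff
    have hne2 : blockModule p E2 ≠ X := by
      rw [hE2, ← module_map]; exact fun h => hff (mem_normalizer_iff_map.2 h)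
    have hc2 : ⁅E, E2⁆ = ⊥ := (hconj _ (F.mul_mem hf hf)).resolve_left fun h => hne2 (by rw [hE2, h])
    have hs2 : Small p E2 := hE.conj (f * f)
    have hc12 : ⁅E1, E2⁆ = ⊥ := by
      have := congrArg (Subgroup.map (MulAut.conj f).toMonoidHom) hc1
      rwa [map_commutator, Subgroup.map_bot, LocalEven62.map_conj_mul] at this
    have hne12 : blockModule p E1 ≠ blockModule p E2 := fun h => hne1 (by
      have h' := congrArg (Subgroup.map (MulAut.conj f⁻¹).toMonoidHom) h
      rw [hE1, hE2, module_map, module_map, LocalEven62.map_conj_inv_cancel, LocalEven62.map_conj_mul,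
        inv_mul_cancel_left] at h'
      exact h'.symm)
    have hcent : X ⊔ blockModule p E1 ≤ centralizer (E2 : Set G) := by
      refine sup_le ?_ ?_
      · exact commutator_eq_bot_iff_le_centralizer.1 (commute_module_of_inf hE (commute_conj_swap hc2)
          (inf_eq_bot_of_ne hE (commute_conj_swap (by rwa [commutator_comm] at hc2))
            fun h => hne2 (hE.module_eq_of_le hs2 h).symm))
      · exact commutator_eq_bot_iff_le_centralizer.1 (commute_module_of_inf hs1 (commute_conj_swap hc12)
          (inf_eq_bot_of_ne hs1 (commute_conj_swap (by rwa [commutator_comm] at hc12))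
            fun h => hne12 (hs1.module_eq_of_le hs2 h)))
    have hsurj : ∀ (H : Subgroup G), Small p H →
        (∀ v ∈ blockModule p H, f * v * f⁻¹ = v → v = 1) →
        ∀ y ∈ XF, ∃ v ∈ blockModule p H, f * v * f⁻¹ * v⁻¹ = y := by
      intro H hH hfree y hy
      obtain ⟨SH⟩ := hH.secX
      let φ : ↥(blockModule p H) → ↥XF := fun v => ⟨f * v * f⁻¹ * (v : G)⁻¹, by
        have := commutator_mem_commutator (module_le_omega H v.2) hf
        rw [← inv_mem_iff, commutatorElement_inv, commutatorElement_def] at this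
        exact this⟩
      have hinj : Function.Injective φ := fun v w h => by
        have h' : f * v * f⁻¹ * (v : G)⁻¹ = f * w * f⁻¹ * (w : G)⁻¹ := congrArg Subtype.val h
        have hvw : (v : G) * (w : G)⁻¹ = 1 := by
          refine hfree _ (mul_mem v.2 (inv_mem w.2)) ?_
          have hV := omegaOneCenter p (pCore p G)
          have a1 : f * (v : G) * f⁻¹ * (f * (w : G) * f⁻¹)⁻¹ = (v : G) * (w : G)⁻¹ := by
            have hfw : f * (w : G) * f⁻¹ ∈ omegaOneCenter p (pCore p G) :=
              (mem_normalizer_iff.1 (le_normalizer_omegaPCore ⊤ (mem_top f)) _).1 (module_le_omega H w.2)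
            have hv := module_le_omega H v.2
            calc f * (v : G) * f⁻¹ * (f * (w : G) * f⁻¹)⁻¹
                = (f * v * f⁻¹ * (v : G)⁻¹) * ((v : G) * (f * (w : G) * f⁻¹)⁻¹) := by group
              _ = (f * w * f⁻¹ * (w : G)⁻¹) * ((f * (w : G) * f⁻¹)⁻¹ * v) := by
                rw [h', hVc hv (inv_mem hfw)]
              _ = (f * w * f⁻¹) * ((w : G)⁻¹ * (f * w * f⁻¹)⁻¹) * v := by group
              _ = (f * w * f⁻¹) * ((f * w * f⁻¹)⁻¹ * (w : G)⁻¹) * v := by
                rw [hVc (inv_mem (module_le_omega H w.2)) (inv_mem hfw)]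
              _ = (w : G)⁻¹ * v := by group
              _ = _ := hVc (inv_mem (module_le_omega H w.2)) hv
          rw [show f * ((v : G) * (w : G)⁻¹) * f⁻¹ = f * v * f⁻¹ * (f * w * f⁻¹)⁻¹ by group]
          exact a1
        exact Subtype.ext (mul_inv_eq_one.1 hvw)
      have hcard : Nat.card ↥(blockModule p H) = Nat.card ↥XF := by rw [SH.card_eq, R.card_eq]
      obtain ⟨v, hv⟩ := ((Nat.bijective_iff_injective_and_card φ).2 ⟨hinj, hcard⟩).2 ⟨y, hy⟩
      exact ⟨v, v.2, congrArg Subtype.val hv⟩
    have hfree1 : ∀ v ∈ blockModule p E1, f * v * f⁻¹ = v → v = 1 := by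
      intro v hv h
      rw [hE1, ← module_map] at hv
      obtain ⟨w, hw, rfl⟩ := hv
      have : w = 1 := hfree w hw (mul_left_cancel (a := f) (mul_right_cancel (b := f⁻¹) (by simpa using h)))
      simp [this]
    have hXF1 : XF ≤ blockModule p E1 := by
      intro y hy
      obtain ⟨v, hv, hvy⟩ := hsurj E hE hfree y hy
      obtain ⟨w, hw, hwy⟩ := hsurj E1 hs1 hfree1 y hy
      have hfv : f * v * f⁻¹ ∈ blockModule p E1 := by rw [hE1, ← module_map]; exact ⟨v, hv, rfl⟩
      have hfw : f * w * f⁻¹ ∈ blockModule p E2 := by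
        rw [hE2, ← LocalEven62.map_conj_mul, ← module_map]; exact ⟨w, hw, rfl⟩
      have h1 : f * w * f⁻¹ ∈ centralizer (E2 : Set G) := by
        refine hcent ?_
        rw [show f * w * f⁻¹ = y * w by rw [← hwy]; group, ← hvy]
        exact mul_mem (mul_mem (mem_sup_right hfv) (inv_mem (mem_sup_left hv))) (mem_sup_right hw)
      have h2 : f * w * f⁻¹ = 1 := mem_bot.1 (hs2.module_inf_cent ▸ ⟨hfw, h1⟩)
      rw [← hwy, h2, one_mul]
      exact inv_mem hw
    have heq := hF.module_eq_of_le hs1 hXF1
    have hf1 : f ∈ normalizer (blockModule p E1 : Set G) := by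
      rw [← heq]; exact normalizer_le_blockModule F (le_normalizer hf)
    apply hne12
    conv_lhs => rw [← mem_normalizer_iff_map.1 hf1]
    rw [module_map, hE1, LocalEven62.map_conj_mul]
  intro f hf
  by_contra hfX
  obtain ⟨hff, hfree⟩ := key f hf hfX
  rcases hE.two_or_three with rfl | rfl
  · refine hfX ?_
    have h3 : f ^ 3 ∈ normalizer (X : Set G) := by
      refine hM ((R.rep_ker (F.pow_mem hf 3)).1 ?_).2
      rw [← R.mat_eq_rep (F.pow_mem hf 3), R.mat_pow (R.normA hf) (R.E_le_normB hf), R.mat_eq_rep hf]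
      exact (R.rep_mem hf).2
    have := mul_mem h3 (inv_mem hff)
    rwa [show f ^ 3 * (f * f)⁻¹ = f by simp only [pow_succ, pow_zero, one_mul]; group] at this
  have main : ∀ g ∈ F, R.rep g * R.rep g = -1 → g ∈ normalizer (X : Set G) := by
    intro g hg hg2
    by_contra hgX
    obtain ⟨hgg, hfree⟩ := key g hg hgX
    have hgF := R.normA hg
    apply hgX
    suffices h : X ≤ XF by
      rw [show X = XF from hE.module_eq_of_le hF h]; exact normalizer_le_blockModule F (le_normalizer hg)
    intro v hv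
    have hgv : ∀ {y}, y ∈ omegaOneCenter 3 (pCore 3 G) → g * y * g⁻¹ ∈ omegaOneCenter 3 (pCore 3 G) :=
      fun hy => (mem_normalizer_iff.1 (le_normalizer_omegaPCore ⊤ (mem_top g)) _).1 hy
    have hu : g * v * g⁻¹ * v⁻¹ ∈ XF := by
      have := commutator_mem_commutator (module_le_omega E hv) hg
      rw [← inv_mem_iff, commutatorElement_inv, commutatorElement_def] at this
      exact this
    set a := g * g * v * (g * g)⁻¹ with ha
    have haX : a ∈ X := (mem_normalizer_iff.1 hgg v).1 hv
    have hav : a * v = 1 := by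
      refine hfree _ (mul_mem haX hv) ?_
      have h1 : (g * g) * (g * v * g⁻¹ * v⁻¹) * (g * g)⁻¹ * (g * v * g⁻¹ * v⁻¹) = 1 := by
        refine mem_bot.1 ((R.mat_eq_neg_iff (R.normA (F.mul_mem hg hg))
          (R.E_le_normB (F.mul_mem hg hg))).1 ?_ _ hu)
        rw [R.mat_mul (R.normA hg) (R.E_le_normB hg) (R.normA hg) (R.E_le_normB hg), R.mat_eq_rep hg, hg2]
      have e1 : (g * g) * (g * v * g⁻¹ * v⁻¹) * (g * g)⁻¹ * (g * v * g⁻¹ * v⁻¹) =
          g * a * g⁻¹ * (a⁻¹ * (g * v * g⁻¹) * v⁻¹) := by rw [ha]; group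
      rw [e1, hVc (inv_mem (module_le_omega E haX)) (hgv (module_le_omega E hv))] at h1
      rw [show g * (a * v) * g⁻¹ = (g * a * g⁻¹ * (g * v * g⁻¹ * a⁻¹ * v⁻¹)) * (v * a) by group, h1,
        one_mul, hVc (module_le_omega E hv) (module_le_omega E haX)]
    have ha' : a = v⁻¹ := eq_inv_of_mul_eq_one_left hav
    have h2 : g * (g * v * g⁻¹ * v⁻¹) * g⁻¹ * (g * v * g⁻¹ * v⁻¹) ∈ XF :=
      mul_mem ((mem_normalizer_iff.1 hgF _).1 hu) hu
    rw [show g * (g * v * g⁻¹ * v⁻¹) * g⁻¹ * (g * v * g⁻¹ * v⁻¹) = (g * g) * v * (g * g)⁻¹ * v⁻¹ by group,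
      ← ha, ha'] at h2
    have h3 := (isElementaryAbelian_omegaOneCenter (p := 3) (pCore 3 G)).2 v (module_le_omega E hv)
    rwa [show v⁻¹ * v⁻¹ = v by
      rw [← mul_inv_rev, inv_eq_iff_mul_eq_one]
      simpa [pow_succ] using h3] at h2
  rcases three_four _ (R.rep_mem hf) with h | h | h
  · exact hfX (hM ((R.rep_ker hf).1 h).2)
  · obtain ⟨J, hJ, hJ2⟩ := three_exists_sq
    obtain ⟨g, hg, hgJ⟩ := R.rep_surj J hJ
    have hgX := main g hg (by rw [hgJ, hJ2])
    have hk : (g * g) * f ∈ blockQ 3 F := by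
      refine (R.rep_ker (F.mul_mem (F.mul_mem hg hg) hf)).1 ?_
      rw [← R.mat_eq_rep (F.mul_mem (F.mul_mem hg hg) hf),
        R.mat_mul (R.normA (F.mul_mem hg hg)) (R.E_le_normB (F.mul_mem hg hg)) (R.normA hf)
          (R.E_le_normB hf),
        R.mat_mul (R.normA hg) (R.E_le_normB hg) (R.normA hg) (R.E_le_normB hg), R.mat_eq_rep hg,
        R.mat_eq_rep hf, hgJ, hJ2, h, neg_mul_neg, one_mul]
    have := mul_mem (inv_mem (mul_mem hgX hgX)) (hM hk.2)
    rw [inv_mul_cancel_left] at this
    exact hfX this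
  · exact hfX (main f hf h)

theorem le_normalizer_of_conj (hG : centralizer (pCore p G : Set G) ≤ pCore p G) [P.Normal]
    (hP : ∀ g ∈ P, ∃ j, g ^ (5 - p) ^ j ∈ pCore p G) (hE : Small p E) (hF : Small p F) (hEP : E ≤ P)
    (hconj : ∀ f ∈ F, E.map (MulAut.conj f).toMonoidHom = E ∨
      ⁅E, E.map (MulAut.conj f).toMonoidHom⁆ = ⊥) :
    F ≤ normalizer (E : Set G) := by
  intro f hf
  rw [mem_normalizer_iff_map]
  rcases hconj f hf with h | h
  · exact h
  refine (eq_of_module_eq hE (hE.conj f) hG hP hEP ?_ (commute_conj_swap (by rwa [commutator_comm] at h))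
    (commute_conj_swap h) ?_).symm
  · rintro _ ⟨e, he, rfl⟩
    exact (inferInstance : P.Normal).conj_mem e (hEP he) f
  · rw [← module_map]
    exact (mem_normalizer_iff_map.1 (normalizer_module hE hF hconj hf)).symm

theorem eq_of_le_sup (hE : Small p E) (hF : Small p F) (h : F ≤ E ⊔ pCore p G) : E = F := by
  have hFE : F ≤ E := le_of_coprime hF.res fun x hx hxp =>
    mem_of_coprime_mem_sup Thompson.isPGroup_pCore hE.normM (h hx) hxp
  refine le_antisymm ?_ hFE
  have hX := (hF.module_eq_of_le hE (commutator_mono le_rfl hFE)).symm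
  refine le_of_coprime hE.res fun e he hep => ?_
  refine mem_of_coprime_mem_sup Thompson.isPGroup_pCore hF.normM ?_ hep
  obtain ⟨f, hf, hk⟩ := exists_agree hF hE hX.symm he
  obtain ⟨S⟩ := hE.secX
  have hkE : f⁻¹ * e ∈ E := E.mul_mem (E.inv_mem (hFE hf)) he
  have hkQ : f⁻¹ * e ∈ blockQ p E := by
    refine (S.rep_ker hkE).1 (S.ext fun a ha => ?_)
    rw [← S.conj hkE ha, Matrix.one_mulVec,
      ← mem_centralizer_iff.1 hk a (hX ▸ ha), mul_inv_cancel_right]
  rw [show e = f * (f⁻¹ * e) by group]
  exact mul_mem (mem_sup_left hf) (mem_sup_right hkQ.2)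

/-- Two small subnormal blocks are equal or commute. -/
theorem eq_or_commute_small (hG : centralizer (pCore p G : Set G) ≤ pCore p G) [P.Normal]
    (hP : ∀ g ∈ P, ∃ j, g ^ (5 - p) ^ j ∈ pCore p G) :
    ∀ (n : ℕ) (K : Subgroup G), Nat.card K ≤ n → K ≤ P → pCore p G ≤ K →
      ∀ E F : Subgroup G, Small p E → Small p F → E.IsSubnormal → F.IsSubnormal → E ≤ K → F ≤ K →
        E = F ∨ ⁅E, F⁆ = ⊥ := by
  intro n
  induction n with
  | zero => intro K hK; exact absurd hK (by simp [Nat.card_pos.ne'])
  | succ n ih =>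
    intro K hK hKP hMK E F hE hF hEs hFs hEK hFK
    by_cases h1 : E ⊔ pCore p G = K
    · exact Or.inl (eq_of_le_sup hE hF (h1 ▸ hFK))
    by_cases h2 : F ⊔ pCore p G = K
    · exact Or.inl (eq_of_le_sup hF hE (h2 ▸ hEK)).symm
    have conjs : ∀ A B : Subgroup G, Small p A → A.IsSubnormal → A ≤ K → B ≤ K →
        A ⊔ pCore p G ≠ K → ∀ b ∈ B, A.map (MulAut.conj b).toMonoidHom = A ∨
          ⁅A, A.map (MulAut.conj b).toMonoidHom⁆ = ⊥ := by
      intro A B hA hAs hAK hBK hne b hb
      obtain ⟨N, hN, hAN, hNlt⟩ : ∃ N : Subgroup ↥K, N.Normal ∧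
          (A ⊔ pCore p G).subgroupOf K ≤ N ∧ N < ⊤ := by
        refine ((sup_subnormal hAs).subgroupOf.lt_normal).resolve_left fun h => hne ?_
        exact le_antisymm (sup_le hAK hMK) (subgroupOf_eq_top.1 h)
      set N' := N.map K.subtype with hN'
      have hAN' : A ⊔ pCore p G ≤ N' := fun x hx =>
        ⟨⟨x, sup_le hAK hMK hx⟩, hAN hx, rfl⟩
      have hcard : Nat.card N' ≤ n := by
        have hlt : N' < K := lt_of_le_of_ne (map_subtype_le N) fun h => hNlt.ne (by
          apply map_injective K.subtype_injective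
          rw [← hN', h, ← MonoidHom.range_eq_map, range_subtype])
        have : Nat.card N' < Nat.card K := Set.ncard_lt_ncard hlt (Set.toFinite _)
        omega
      have hconjN : A.map (MulAut.conj b).toMonoidHom ≤ N' := by
        rintro _ ⟨a, ha, rfl⟩
        obtain ⟨a', ha', rfl⟩ := hAN' (mem_sup_left ha)
        exact ⟨⟨b, hBK hb⟩ * a' * ⟨b, hBK hb⟩⁻¹, hN.conj_mem a' ha' _, by simp⟩
      rcases ih N' hcard ((map_subtype_le N).trans hKP) (le_sup_right.trans hAN') A _ hA (hA.conj b) hAs
        (hAs.map (f := (MulAut.conj b).toMonoidHom) (MulAut.conj b).surjective)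
        (le_sup_left.trans hAN') hconjN with h | h
      · exact Or.inl h.symm
      · exact Or.inr h
    have hFE := le_normalizer_of_conj hG hP hE hF (hEK.trans hKP) (conjs E F hE hEs hEK hFK h1)
    have hEF := le_normalizer_of_conj hG hP hF hE (hFK.trans hKP) (conjs F E hF hFs hFK hEK h2)
    by_cases hX : blockModule p E = blockModule p F
    · exact Or.inl (eq_of_module_eq hE hF hG hP (hEK.trans hKP) (hFK.trans hKP) hEF hFE hX)
    · exact Or.inr (commute_of_module_ne hE hF hEF hFE hX)
where
  sup_subnormal {A : Subgroup G} (h : A.IsSubnormal) : (A ⊔ pCore p G).IsSubnormal := by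
    have := (h.map (f := QuotientGroup.mk' (pCore p G)) (QuotientGroup.mk'_surjective _)).comap
      (QuotientGroup.mk' (pCore p G))
    rwa [comap_map_eq, QuotientGroup.ker_mk'] at this

end Cfsg.Agent.LAE65.Pair
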