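import Cfsg.Agent.LAE65.Pair.Small
import Cfsg.Agent.PushUp62.Common

/-!
Small blocks with the same module are equal.
-/

set_option autoImplicit false
set_option linter.style.haveILetI false
set_option linter.unusedSectionVars false
set_option maxHeartbeats 800000

open Subgroup Cfsg
open scoped commutatorElement Pointwise Matrix
open Cfsg.Agent.PushUp62 (centMod)

namespace Cfsg.Agent.LAE65.Pair

open Block

variable {G : Type*} [Group G] [Finite G] {p : ℕ} [hp : Fact p.Prime] {E F : Subgroup G}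

theorem mem_normalizer_core (g : G) : g ∈ normalizer (pCore p G : Set G) :=
  le_normalizer_pCore ⊤ (mem_top g)

theorem module_le_omega (E : Subgroup G) : blockModule p E ≤ omegaOneCenter p (pCore p G) :=
  le_normalizer_iff_commutator_le_left.1 (le_normalizer_omegaPCore E)

theorem module_comm {E : Subgroup G} {x m : G} (hx : x ∈ blockModule p E) (hm : m ∈ pCore p G) :
    m * x = x * m :=
  mem_centralizer_iff.1 (omegaOneCenter_le_centralizer _ (module_le_omega E hx)) m hm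

theorem module_le_core (E : Subgroup G) : blockModule p E ≤ pCore p G :=
  (module_le_omega E).trans (omegaOneCenter_le _)

theorem normalizer_le_blockQ (E : Subgroup G) :
    normalizer (E : Set G) ≤ normalizer (blockQ p E : Set G) :=
  (le_inf le_rfl fun g _ => mem_normalizer_core g).trans inf_normalizer_le_normalizer_inf

theorem normalizer_le_blockModule (E : Subgroup G) :
    normalizer (E : Set G) ≤ normalizer (blockModule p E : Set G) := fun g hg => by
  have hV := le_normalizer_omegaPCore (p := p) ⊤ (mem_top g)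
  rw [mem_normalizer_iff_map] at hg hV ⊢
  rw [blockModule, map_commutator, hV, hg]

theorem normalizer_le_blockZ (E : Subgroup G) :
    normalizer (E : Set G) ≤ normalizer (blockZ E : Set G) :=
  (le_inf le_rfl (LocalEven64.le_normalizer_centralizer le_rfl)).trans inf_normalizer_le_normalizer_inf

theorem normalizer_le_blockW (E : Subgroup G) :
    normalizer (E : Set G) ≤ normalizer (blockW p E : Set G) :=
  LocalEven62.le_normalizer_sup (normalizer_le_blockModule E) (normalizer_le_blockZ E)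

omit [Finite G] in
theorem normalizer_bot' (g : G) : g ∈ normalizer ((⊥ : Subgroup G) : Set G) := by
  rw [normalizer_eq_top]; trivial

theorem eq_one_of_mem_core {g : G} (hg : g ∈ pCore p G) (hgp : (orderOf g).Coprime p) : g = 1 :=
  Transfer.eq_one_of_coprime_of_mem Thompson.isPGroup_pCore hg hgp

/-- A coprime part modulo the core. -/
theorem exists_coprime_part {g : G} {j q : ℕ} (hq : q.Coprime p)
    (hj : g ^ q ^ j ∈ pCore p G) :
    ∃ g' ∈ zpowers g, (orderOf g').Coprime p ∧ g ∈ zpowers g' ⊔ pCore p G := by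
  obtain ⟨a, ha⟩ := Thompson.isPGroup_pCore (p := p) (G := G) ⟨_, hj⟩
  have ha' : (g ^ q ^ j) ^ p ^ a = 1 := by simpa using congrArg Subtype.val ha
  have hcop : (q ^ j).Coprime (p ^ a) := hq.pow j a
  refine ⟨g ^ p ^ a, ⟨(p ^ a : ℕ), zpow_natCast _ _⟩, ?_, ?_⟩
  · refine (hq.pow_left j).coprime_dvd_left ?_
    exact orderOf_dvd_of_pow_eq_one (by rw [← pow_mul, mul_comm, pow_mul, ha'])
  · have hb : (1 : ℤ) = (q ^ j : ℕ) * Nat.gcdA (q ^ j) (p ^ a) + (p ^ a : ℕ) * Nat.gcdB (q ^ j) (p ^ a) := by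
      rw [← Nat.gcd_eq_gcd_ab, hcop.gcd_eq_one]; rfl
    have : g = (g ^ p ^ a) ^ Nat.gcdB (q ^ j) (p ^ a) * (g ^ q ^ j) ^ Nat.gcdA (q ^ j) (p ^ a) := by
      rw [← zpow_natCast g, ← zpow_natCast g (q ^ j), ← zpow_mul, ← zpow_mul, ← zpow_add, add_comm, ← hb,
        zpow_one]
    refine (congrArg (· ∈ zpowers (g ^ p ^ a) ⊔ pCore p G) this).mpr ?_
    exact mul_mem (mem_sup_left (zpow_mem (mem_zpowers _) _)) (mem_sup_right (zpow_mem hj _))

theorem coprime_q (hp2 : p = 2 ∨ p = 3) : (5 - p).Coprime p := by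
  rcases hp2 with rfl | rfl <;> decide

namespace Small

variable (hE : Small p E)
include hE

theorem module_le : blockModule p E ≤ E :=
  le_normalizer_iff_commutator_le_right.1
    ((omegaOneCenter_le _).trans hE.normM)

theorem module_le_blockQ : blockModule p E ≤ blockQ p E := le_inf hE.module_le (module_le_core E)

theorem comm_mem_blockQ {e m : G} (he : e ∈ E) (hm : m ∈ pCore p G) : ⁅e, m⁆ ∈ blockQ p E := by
  refine ⟨?_, le_normalizer_iff_commutator_le_right.1 (le_normalizer_pCore E)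
    (commutator_mem_commutator he hm)⟩
  exact le_normalizer_iff_commutator_le_left.1 hE.normM (commutator_mem_commutator he hm)

theorem comm_mem_blockQ' {e m : G} (he : e ∈ E) (hm : m ∈ pCore p G) : ⁅m, e⁆ ∈ blockQ p E := by
  rw [← commutatorElement_inv]; exact inv_mem (hE.comm_mem_blockQ he hm)

theorem W_le : ∀ _ : Exc3 p E, blockW p E ≤ blockQ p E := fun h =>
  sup_le hE.module_le_blockQ (le_inf inf_le_left h.cent_le)

theorem W_comm (h : Exc3 p E) {w q : G} (hw : w ∈ blockW p E) (hq : q ∈ blockQ p E) :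
    q * w = w * q := by
  have hle : blockW p E ≤ centralizer ({q} : Set G) := sup_le
    (fun x hx => mem_centralizer_singleton.2 (module_comm hx hq.2).symm)
    (fun z hz => mem_centralizer_singleton.2 (mem_centralizer_iff.1 hz.2 q hq.1).symm)
  exact (mem_centralizer_singleton.1 (hle hw)).symm

end Small

/-- A `p'`-element stabilising `O_p(G) ≥ R ≥ 1` is trivial. -/
theorem eq_one_of_stabilizes (hG : centralizer (pCore p G : Set G) ≤ pCore p G) {R : Subgroup G}
    (hR : R ≤ pCore p G) {g : G} (hgp : (orderOf g).Coprime p)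
    (hgR : ∀ r ∈ R, g * r = r * g) (hg : ∀ m ∈ pCore p G, ⁅g, m⁆ ∈ R) : g = 1 := by
  refine eq_one_of_mem_core (hG (mem_centralizer_iff.2 fun m hm => ?_)) hgp
  exact (PushUp62.commute_of_stabilizes (Thompson.isPGroup_pCore.to_le hR) hgR
    (pow_orderOf_eq_one g) hgp (hg m hm)).symm

/-- The elements to which rigidity applies. -/
def rigidSet (p : ℕ) (E P : Subgroup G) : Subgroup G :=
  centMod (pCore p G) (blockQ p E) ⊓ centralizer (blockModule p E : Set G) ⊓ normalizer (E : Set G) ⊓ P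

variable {P : Subgroup G}

theorem mem_rigidSet {g : G} : g ∈ rigidSet p E P ↔
    ((g ∈ normalizer (blockQ p E : Set G) ∧ ∀ m ∈ pCore p G, ⁅g, m⁆ ∈ blockQ p E) ∧
      g ∈ centralizer (blockModule p E : Set G)) ∧ g ∈ normalizer (E : Set G) ∧ g ∈ P :=
  ⟨fun h => ⟨⟨h.1.1.1, h.1.1.2⟩, h.1.2, h.2⟩, fun h => ⟨⟨⟨h.1.1, h.1.2⟩, h.2.1⟩, h.2.2⟩⟩

theorem rigidSet_conj [P.Normal] {b k : G} (hb : b ∈ normalizer (E : Set G))
    (hk : k ∈ rigidSet p E P) : b * k * b⁻¹ ∈ rigidSet p E P := by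
  rw [mem_rigidSet] at hk ⊢
  refine ⟨⟨⟨mul_mem (mul_mem (normalizer_le_blockQ E hb) hk.1.1.1)
      (inv_mem (normalizer_le_blockQ E hb)), fun m hm => ?_⟩, ?_⟩,
    mul_mem (mul_mem hb hk.2.1) (inv_mem hb), (inferInstance : P.Normal).conj_mem k hk.2.2 b⟩
  · have hm' : b⁻¹ * m * b ∈ pCore p G := by
      simpa using (mem_normalizer_iff.1 (mem_normalizer_core b⁻¹) m).1 hm
    have h := (mem_normalizer_iff.1 (normalizer_le_blockQ E hb) _).1 (hk.1.1.2 _ hm')
    have e : ⁅b * k * b⁻¹, m⁆ = b * ⁅k, b⁻¹ * m * b⁆ * b⁻¹ := by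
      simp only [commutatorElement_def]; group
    rw [e]; exact h
  · exact (mem_normalizer_iff.1 (LocalEven64.le_normalizer_centralizer le_rfl
      (normalizer_le_blockModule E hb)) k).1 hk.1.2

theorem cent_derived_of_mat (hE : Small p E) (h : Exc3 p E)
    (S : Sec p E (blockQ p E) (blockQ p E) (blockW p E)) {g : G}
    (hgQ : g ∈ normalizer (blockQ p E : Set G)) (hgW : g ∈ normalizer (blockW p E : Set G))
    (hg : S.mat g = 1 ∨ S.mat g = -1) {z : G} (hz : z ∈ blockZ E) : g * z = z * g := by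
  rw [← h.derived] at hz
  have hle : ⁅blockQ p E, blockQ p E⁆ ≤ centralizer ({g} : Set G) := by
    rw [commutator_le]
    intro a ha a' ha'
    rw [mem_centralizer_singleton, eq_comm, ← mul_inv_eq_iff_eq_mul]
    have hW : ∀ {x}, x ∈ blockQ p E → ∀ w ∈ blockW p E, ∀ {y}, y ∈ blockQ p E →
        ⁅w * x, y⁆ = ⁅x, y⁆ ∧ ⁅y, w * x⁆ = ⁅y, x⁆ := fun {x} hx w hw {y} hy => by
      have h1 : ⁅w * x, y⁆ = ⁅x, y⁆ := by
        have hxy : ⁅x, y⁆ ∈ blockQ p E := by
          rw [commutatorElement_def]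
          exact mul_mem (mul_mem (mul_mem hx hy) (inv_mem hx)) (inv_mem hy)
        rw [PushUp62.commutator_mul_left, commutatorElement_eq_one_iff_mul_comm.2
          (hE.W_comm h hw hy).symm, mul_one, ← hE.W_comm h hw hxy, mul_inv_cancel_right]
      exact ⟨h1, by rw [← commutatorElement_inv, h1, commutatorElement_inv]⟩
    have hcent : ∀ {c q}, c ∈ ⁅blockQ p E, blockQ p E⁆ → q ∈ blockQ p E → q * c = c * q :=
      fun {c q} hc hq => by rw [h.derived] at hc; exact mem_centralizer_iff.1 hc.2 q hq.1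
    have hconj : g * ⁅a, a'⁆ * g⁻¹ = ⁅g * a * g⁻¹, g * a' * g⁻¹⁆ := by
      simp only [commutatorElement_def]; group
    rw [hconj]
    rcases hg with hg | hg
    · have h1 := (S.mat_eq_one_iff hgQ hgW).1 hg
      rw [show g * a * g⁻¹ = (g * a * g⁻¹ * a⁻¹) * a by group,
        show g * a' * g⁻¹ = (g * a' * g⁻¹ * a'⁻¹) * a' by group,
        (hW ha _ (h1 a ha) (mul_mem ((hE.W_le h) (h1 a' ha')) ha')).1,
        (hW ha' _ (h1 a' ha') ha).2]
    · have h1 := (S.mat_eq_neg_iff hgQ hgW).1 hg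
      rw [show g * a * g⁻¹ = (g * a * g⁻¹ * a) * a⁻¹ by group,
        show g * a' * g⁻¹ = (g * a' * g⁻¹ * a') * a'⁻¹ by group,
        (hW (inv_mem ha) _ (h1 a ha) (mul_mem ((hE.W_le h) (h1 a' ha')) (inv_mem ha'))).1,
        (hW (inv_mem ha') _ (h1 a' ha') (inv_mem ha)).2]
      have hc := commutator_mem_commutator ha ha'
      calc ⁅a⁻¹, a'⁻¹⁆ = (a' * a)⁻¹ * (⁅a, a'⁆ * (a' * a)) := by
            simp only [commutatorElement_def]; group
        _ = ⁅a, a'⁆ := by rw [← hcent hc (mul_mem ha' ha), inv_mul_cancel_left]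
  exact (mem_centralizer_singleton.1 (hle hz)).symm

/-- An element of `p'`-order trivial on the sections of `Q` centralises `Q`. -/
theorem eq_one_of_mat_eq_one (hG : centralizer (pCore p G : Set G) ≤ pCore p G) (hE : Small p E)
    (h : Exc3 p E) (S : Sec p E (blockQ p E) (blockQ p E) (blockW p E)) {g : G}
    (hg : g ∈ rigidSet p E P) (hgp : (orderOf g).Coprime p) (h1 : S.mat g = 1) : g = 1 := by
  rw [mem_rigidSet] at hg
  have hgW := normalizer_le_blockW (p := p) E hg.2.1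
  refine eq_one_of_stabilizes hG inf_le_right hgp (fun q hq => ?_) hg.1.1.2
  refine PushUp62.commute_of_stabilizes (Thompson.isPGroup_pCore.to_le ((hE.W_le h).trans inf_le_right))
    (fun w hw => ?_) (pow_orderOf_eq_one g) hgp ((S.mat_eq_one_iff hg.1.1.1 hgW).1 h1 q hq)
  have hle : blockW p E ≤ centralizer ({g} : Set G) := sup_le
    (fun x hx => mem_centralizer_singleton.2 (mem_centralizer_iff.1 hg.1.2 x hx))
    (fun z hz => mem_centralizer_singleton.2
      (cent_derived_of_mat hE h S hg.1.1.1 hgW (Or.inl h1) hz).symm)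
  exact (mem_centralizer_singleton.1 (hle hw)).symm

/-- Rigidity of an exceptional block. -/
theorem eq_one_of_rigid (hG : centralizer (pCore p G : Set G) ≤ pCore p G) [P.Normal]
    (hP : ∀ g ∈ P, ∃ j, g ^ (5 - p) ^ j ∈ pCore p G) (hE : Small p E)
    {k : G} (hk : k ∈ rigidSet p E P) (hkp : (orderOf k).Coprime p) : k = 1 := by
  rcases hE.alt with hlin | h
  · have hk' := mem_rigidSet.1 hk
    refine eq_one_of_stabilizes hG inf_le_right hkp (fun q hq => ?_) hk'.1.1.2
    exact (mem_centralizer_iff.1 hk'.1.2 q (hlin.le hq)).symm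
  have h3 := h.three
  subst h3
  obtain ⟨SX⟩ := hE.secX
  obtain ⟨S⟩ := h.secQ
  have nW : ∀ {g}, g ∈ rigidSet 3 E P → g ∈ normalizer (blockW 3 E : Set G) := fun hg =>
    normalizer_le_blockW E (mem_rigidSet.1 hg).2.1
  have nQ : ∀ {g}, g ∈ rigidSet 3 E P → g ∈ normalizer (blockQ 3 E : Set G) := fun hg =>
    (mem_rigidSet.1 hg).1.1.1
  -- `k` is a scalar on `Q / W`
  have hscal : S.mat k = 1 ∨ S.mat k = -1 := by
    refine S.scalar rfl (nQ hk) (nW hk) fun e he => ?_
    have hk' := mem_rigidSet.1 hk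
    have heE := le_normalizer he
    set c := ⁅k, e⁆ with hc
    have hcE : c ∈ E := by
      rw [hc, commutatorElement_def]
      exact mul_mem ((mem_normalizer_iff.1 hk'.2.1 e).1 he) (inv_mem he)
    have hcC : c ∈ centralizer (blockModule 3 E : Set G) := by
      rw [hc, commutatorElement_def, show k * e * k⁻¹ * e⁻¹ = k * (e * k⁻¹ * e⁻¹) by group]
      exact mul_mem hk'.1.2 ((mem_normalizer_iff.1 (LocalEven64.le_normalizer_centralizer le_rfl
        (normalizer_le_blockModule E heE)) _).1 (inv_mem hk'.1.2))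
    have hcQ : c ∈ blockQ 3 E := by
      refine (SX.rep_ker hcE).1 (SX.ext fun a ha => ?_)
      rw [← SX.conj hcE ha, Matrix.one_mulVec, ← mem_centralizer_iff.1 hcC a ha, mul_inv_cancel_right]
    rw [show k * e = c * (e * k) by rw [hc, commutatorElement_def]; group]
    rw [S.mat_mul (S.normA hcE) (S.E_le_normB hcE) (mul_mem (S.normA he) (nQ hk))
      (mul_mem (S.E_le_normB he) (nW hk)), S.mat_eq_rep hcE, (S.rep_ker hcE).2 hcQ, one_mul]
  rcases hscal with hs | hs
  · exact eq_one_of_mat_eq_one hG hE h S hk hkp hs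
  exfalso
  -- `k` is an involution
  have hk2 : k * k = 1 := by
    refine eq_one_of_mat_eq_one hG hE h S (mul_mem hk hk) ?_ ?_
    · rw [← sq]; exact hkp.coprime_dvd_left (orderOf_pow_dvd 2)
    · rw [S.mat_mul (nQ hk) (nW hk) (nQ hk) (nW hk), hs, neg_mul_neg, one_mul]
  have hkinv : k⁻¹ = k := inv_eq_of_mul_eq_one_right hk2
  -- all conjugates agree modulo `Q`
  have hconj : ∀ b ∈ normalizer (E : Set G), ∃ c ∈ blockQ 3 E, b * k * b⁻¹ = c * k := by
    intro b hb
    set k' := b * k * b⁻¹ with hk'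
    have hk'R : k' ∈ rigidSet 3 E P := rigidSet_conj hb hk
    have hbQ := normalizer_le_blockQ (p := 3) E hb
    have hbW := normalizer_le_blockW (p := 3) E hb
    have hk'2 : k' * k' = 1 := by
      rw [hk', show b * k * b⁻¹ * (b * k * b⁻¹) = b * (k * k) * b⁻¹ by group, hk2]; simp
    have hs' : S.mat k' = -1 := by
      rw [hk', S.mat_mul (mul_mem hbQ (nQ hk)) (mul_mem hbW (nW hk)) (inv_mem hbQ) (inv_mem hbW),
        S.mat_mul hbQ hbW (nQ hk) (nW hk), hs, mul_neg_one, neg_mul,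
        ← S.mat_mul hbQ hbW (inv_mem hbQ) (inv_mem hbW), mul_inv_cancel, S.mat_one]
    set c := k' * k with hc
    have hcR : c ∈ rigidSet 3 E P := mul_mem hk'R hk
    have hc1 : c ∈ centMod (blockQ 3 E) (blockW 3 E) := by
      refine ⟨nW hcR, fun a ha => ?_⟩
      rw [commutatorElement_def]
      refine (S.mat_eq_one_iff (nQ hcR) (nW hcR)).1 ?_ a ha
      rw [hc, S.mat_mul (nQ hk'R) (nW hk'R) (nQ hk) (nW hk), hs, hs', neg_mul_neg, one_mul]
    have hcM : c ∈ pCore 3 G := by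
      obtain ⟨j, hj⟩ := hP c (mem_rigidSet.1 hcR).2.2
      obtain ⟨c', hc', hc'p, hcc'⟩ := exists_coprime_part (coprime_q (Or.inr rfl)) hj
      have hc'R : c' ∈ rigidSet 3 E P := zpowers_le.2 hcR hc'
      have : c' = 1 := by
        refine eq_one_of_mat_eq_one hG hE h S hc'R hc'p ((S.mat_eq_one_iff (nQ hc'R) (nW hc'R)).2
          fun a ha => ?_)
        have := (zpowers_le.2 hc1 hc').2 a ha
        rwa [commutatorElement_def] at this
      rw [this, zpowers_one_eq_bot, bot_sup_eq] at hcc'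
      exact hcc'
    refine ⟨c, ?_, by rw [hc, mul_assoc, hk2, mul_one]⟩
    have h2 : c * c ∈ blockQ 3 E := by
      have h := inv_mem ((mem_rigidSet.1 hk).1.1.2 c hcM)
      have e : ⁅k, c⁆⁻¹ = c * c := by
        have e1 : k * c⁻¹ * k⁻¹ = c := by
          have hk'inv : k'⁻¹ = k' := inv_eq_of_mul_eq_one_right hk'2
          rw [hc, mul_inv_rev, hkinv, hk'inv, ← mul_assoc k k k', hk2, one_mul]
        rw [commutatorElement_inv, commutatorElement_def, mul_assoc c k, mul_assoc c, e1]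
      rwa [e] at h
    obtain ⟨a, ha⟩ := Thompson.isPGroup_pCore (p := 3) (G := G) ⟨c, hcM⟩
    have ha' : c ^ 3 ^ a = 1 := by simpa using congrArg Subtype.val ha
    obtain ⟨t, ht⟩ := (Odd.pow (by decide : Odd 3) : Odd (3 ^ a))
    have : c = (c * c) ^ (t + 1) := by
      rw [← sq, ← pow_mul, show 2 * (t + 1) = 3 ^ a + 1 by omega, pow_add, ha', one_mul, pow_one]
    exact this.symm ▸ pow_mem h2 _
  obtain ⟨b, hbE, ⟨n, hbn⟩, hquad⟩ := h.nonquad
  apply hquad
  have hbQ := normalizer_le_blockQ (p := 3) E hbE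
  have hbW := normalizer_le_blockW (p := 3) E hbE
  have hbX := normalizer_le_blockModule (p := 3) E hbE
  have hbZ := normalizer_le_blockZ E hbE
  have hkQ := nQ hk
  have hZQ : (blockZ E) ≤ (blockQ 3 E) := le_inf inf_le_left h.cent_le
  have hZc : ∀ {z q}, z ∈ (blockZ E) → q ∈ (blockQ 3 E) → q * z = z * q := fun {z q} hz hq =>
    mem_centralizer_iff.1 hz.2 q hq.1
  have hkZ : k ∈ normalizer ((blockZ E) : Set G) := normalizer_le_blockZ E (mem_rigidSet.1 hk).2.1
  have hkW : ∀ w ∈ (blockW 3 E), k * w * k⁻¹ = w := by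
    intro w hw
    have hle : (blockW 3 E) ≤ centralizer ({k} : Set G) := sup_le
      (fun x hx => mem_centralizer_singleton.2 (mem_centralizer_iff.1 (mem_rigidSet.1 hk).1.2 x hx))
      (fun z hz => mem_centralizer_singleton.2
        (cent_derived_of_mat hE h S hkQ (nW hk) (Or.inr hs) hz).symm)
    rw [← mem_centralizer_singleton.1 (hle hw)]; group
  -- the inverted part
  let Q1 : Subgroup G :=
    { carrier := {x | x ∈ (blockQ 3 E) ∧ k * x * k⁻¹ * x ∈ (blockZ E)}
      one_mem' := ⟨one_mem _, by simp⟩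
      mul_mem' := fun {x y} hx hy => ⟨mul_mem hx.1 hy.1, by
        have hy' : k * y * k⁻¹ * y ∈ (blockZ E) := hy.2
        have e : k * (x * y) * k⁻¹ * (x * y) =
            (k * x * k⁻¹) * ((k * y * k⁻¹ * y) * (y⁻¹ * x)) * y := by group
        have hyx : y⁻¹ * x ∈ (blockQ 3 E) := mul_mem (inv_mem hy.1) hx.1
        rw [e, ← hZc hy' hyx,
          show k * x * k⁻¹ * (y⁻¹ * x * (k * y * k⁻¹ * y)) * y =
            (k * x * k⁻¹ * x) * (x⁻¹ * y⁻¹ * x * y) * (y⁻¹ * (k * y * k⁻¹ * y) * y) by group]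
        refine mul_mem (mul_mem hx.2 ?_) ?_
        · rw [show (blockZ E) = ⁅(blockQ 3 E), (blockQ 3 E)⁆ from h.derived.symm,
            show x⁻¹ * y⁻¹ * x * y = ⁅x⁻¹, y⁻¹⁆ by simp only [commutatorElement_def]; group]
          exact commutator_mem_commutator (inv_mem hx.1) (inv_mem hy.1)
        · rw [mul_assoc, ← hZc hy' hy.1, ← mul_assoc, inv_mul_cancel, one_mul]
          exact hy'⟩
      inv_mem' := fun {x} hx => ⟨inv_mem hx.1, by
        have h2 : k * x * k⁻¹ * x ∈ (blockZ E) := hx.2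
        have h3 := hZc h2 hx.1
        have e : k * x⁻¹ * k⁻¹ * x⁻¹ = (x * (k * x * k⁻¹ * x) * x⁻¹)⁻¹ := by group
        rw [e, h3, mul_inv_cancel_right]
        exact inv_mem h2⟩ }
  have hb1 : ∀ x ∈ Q1, b * x * b⁻¹ ∈ Q1 := by
    intro x hx
    obtain ⟨c, hc, hck⟩ := hconj b⁻¹ (inv_mem hbE)
    refine ⟨(mem_normalizer_iff.1 hbQ x).1 hx.1, ?_⟩
    have e : k * (b * x * b⁻¹) * k⁻¹ * (b * x * b⁻¹) =
        b * ((b⁻¹ * k * b⁻¹⁻¹) * x * (b⁻¹ * k * b⁻¹⁻¹)⁻¹ * x) * b⁻¹ := by group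
    rw [e, hck]
    refine (mem_normalizer_iff.1 hbZ _).1 ?_
    have hkx : k * x * k⁻¹ ∈ (blockQ 3 E) := (mem_normalizer_iff.1 hkQ x).1 hx.1
    rw [show c * k * x * (c * k)⁻¹ * x = ⁅c, k * x * k⁻¹⁆ * (k * x * k⁻¹ * x) by
      simp only [commutatorElement_def]; group]
    exact mul_mem (by rw [show (blockZ E) = ⁅(blockQ 3 E), (blockQ 3 E)⁆ from h.derived.symm]; exact commutator_mem_commutator hc hkx)
      hx.2
  have hQW : ∀ x ∈ (blockQ 3 E), ∃ w ∈ (blockW 3 E), x * w ∈ Q1 := by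
    intro x hx
    have hy := (S.mat_eq_neg_iff hkQ (nW hk)).1 hs x hx
    refine ⟨k * x * k⁻¹ * x, hy, mul_mem hx (hE.W_le h hy), ?_⟩
    have hWx := hE.W_comm h hy hx
    rw [show k * (x * (k * x * k⁻¹ * x)) * k⁻¹ = (k * x * k⁻¹) * (k * (k * x * k⁻¹ * x) * k⁻¹) by group,
      hkW _ hy]
    rw [show k * x * k⁻¹ * (k * x * k⁻¹ * x) * (x * (k * x * k⁻¹ * x)) =
      k * x * k⁻¹ * ((k * x * k⁻¹ * x) * x) * (k * x * k⁻¹ * x) by group, ← hWx,
      show k * x * k⁻¹ * (x * (k * x * k⁻¹ * x)) * (k * x * k⁻¹ * x) =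
        (k * x * k⁻¹ * x) * (k * x * k⁻¹ * x) * (k * x * k⁻¹ * x) by group]
    have hcube : ∀ y ∈ (blockW 3 E), y * y * y ∈ (blockZ E) := by
      intro y hy
      have hn : (blockModule 3 E) ≤ normalizer ((blockZ E) : Set G) := hE.module_le.trans (le_normalizer.trans (normalizer_le_blockZ E))
      have h2 : y ∈ (((blockModule 3 E) : Set G) * ((blockZ E) : Set G)) := by
        rw [← coe_mul_of_left_le_normalizer_right _ _ hn]; exact hy
      obtain ⟨x₀, hx₀, z, hz, rfl⟩ := Set.mem_mul.1 h2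
      have hc : Commute x₀ z := hZc hz (hE.module_le_blockQ hx₀)
      have h3 := (isElementaryAbelian_omegaOneCenter (p := 3) (pCore 3 G)).2 x₀ (module_le_omega E hx₀)
      rw [show x₀ * z * (x₀ * z) * (x₀ * z) = (x₀ * z) ^ 3 by simp only [pow_succ, pow_zero, one_mul],
        hc.mul_pow, h3, one_mul]
      exact pow_mem hz 3
    exact hcube _ hy
  have hQ1W : ∀ y ∈ Q1, y ∈ (blockW 3 E) → y ∈ (blockZ E) := by
    intro y hy hyW
    have h1 : k * y * k⁻¹ * y ∈ (blockZ E) := hy.2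
    rw [hkW y hyW] at h1
    have hn : (blockModule 3 E) ≤ normalizer ((blockZ E) : Set G) := hE.module_le.trans (le_normalizer.trans (normalizer_le_blockZ E))
    have h2 : y ∈ (((blockModule 3 E) : Set G) * ((blockZ E) : Set G)) := by
      rw [← coe_mul_of_left_le_normalizer_right _ _ hn]; exact hyW
    obtain ⟨x₀, hx₀, z, hz, rfl⟩ := Set.mem_mul.1 h2
    have hc : z * x₀ = x₀ * z := (hZc hz (hE.module_le_blockQ hx₀)).symm
    rw [show x₀ * z * (x₀ * z) = x₀ * (z * x₀) * z by group, hc] at h1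
    have h4 : x₀ * x₀ ∈ (blockZ E) := by
      have := mul_mem h1 (inv_mem (mul_mem hz hz))
      rwa [show x₀ * (x₀ * z) * z * (z * z)⁻¹ = x₀ * x₀ by group] at this
    have h3 := (isElementaryAbelian_omegaOneCenter (p := 3) (pCore 3 G)).2 x₀ (module_le_omega E hx₀)
    have : x₀ ∈ (blockZ E) := by
      have := inv_mem h4
      rwa [← eq_inv_of_mul_eq_one_right (a := x₀ * x₀) (b := x₀)
        (by rw [← h3]; simp only [pow_succ, pow_zero, one_mul])] at this
    exact mul_mem this hz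
  have hcomm : ∀ {A : Subgroup G}, b ∈ normalizer (A : Set G) → ∀ {a}, a ∈ A → ⁅a, b⁆ ∈ A :=
    fun {A} hA {a} ha => by
      rw [show ⁅a, b⁆ = a * (b * a⁻¹ * b⁻¹) by rw [commutatorElement_def]; group]
      exact mul_mem ha ((mem_normalizer_iff.1 hA _).1 (inv_mem ha))
  have hprod : ∀ {u v}, u ∈ (blockW 3 E) → v ∈ (blockQ 3 E) → ⁅u * v, b⁆ = ⁅v, b⁆ * ⁅u, b⁆ := fun {u v} hu hv => by
    rw [PushUp62.commutator_mul_left, ← hE.W_comm h hu (hcomm hbQ hv), mul_inv_cancel_right]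
  have hW1 : ∀ w ∈ (blockW 3 E), ⁅⁅w, b⁆, b⁆ ∈ (blockZ E) := by
    intro w hw
    have hn : (blockModule 3 E) ≤ normalizer ((blockZ E) : Set G) := hE.module_le.trans (le_normalizer.trans (normalizer_le_blockZ E))
    have h2 : w ∈ (((blockModule 3 E) : Set G) * ((blockZ E) : Set G)) := by
      rw [← coe_mul_of_left_le_normalizer_right _ _ hn]; exact hw
    obtain ⟨x₀, hx₀, z, hz, rfl⟩ := Set.mem_mul.1 h2
    have hX1 : ⁅⁅x₀, b⁆, b⁆ = 1 := mem_bot.1 (SX.quadratic rfl hbX (normalizer_bot' b) hbn hx₀)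
    rw [hprod (mem_sup_left hx₀) (hZQ hz), hprod (mem_sup_right (hcomm hbZ hz))
      (hcomm hbQ (hE.module_le_blockQ hx₀)), hX1, one_mul]
    exact hcomm hbZ (hcomm hbZ hz)
  have hcomm' : ∀ {a}, a ∈ Q1 → ⁅a, b⁆ ∈ Q1 := fun {a} ha => by
    rw [show ⁅a, b⁆ = a * (b * a⁻¹ * b⁻¹) by rw [commutatorElement_def]; group]
    exact mul_mem ha (hb1 _ (inv_mem ha))
  have hkey : ∀ x ∈ (blockQ 3 E), ⁅⁅x, b⁆, b⁆ ∈ (blockZ E) := by
    intro x hx
    obtain ⟨w, hw, hxw⟩ := hQW x hx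
    have h1 : ⁅⁅x * w, b⁆, b⁆ ∈ (blockZ E) := by
      refine hQ1W _ (hcomm' (hcomm' hxw)) (S.quadratic rfl hbQ hbW hbn hxw.1)
    rw [show x = w⁻¹ * (x * w) by rw [hE.W_comm h hw hx]; group,
      hprod (inv_mem hw) hxw.1]
    have hv : ⁅x * w, b⁆ ∈ (blockQ 3 E) := hcomm hbQ hxw.1
    have hu : ⁅w⁻¹, b⁆ ∈ (blockW 3 E) := hcomm hbW (inv_mem hw)
    rw [hE.W_comm h hu hv, hprod hu hv]
    exact mul_mem h1 (hW1 _ (inv_mem hw))
  -- from `b` to the cyclic subgroup
  let K : Subgroup G :=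
    { carrier := {a | a ∈ (blockQ 3 E) ∧ ⁅a, b⁆ ∈ (blockZ E)}
      one_mem' := ⟨one_mem _, by rw [commutatorElement_one_left]; exact one_mem _⟩
      mul_mem' := fun {a a'} ha ha' => ⟨mul_mem ha.1 ha'.1, by
        rw [PushUp62.commutator_mul_left, hZc ha'.2 ha.1, mul_inv_cancel_right]
        exact mul_mem ha'.2 ha.2⟩
      inv_mem' := fun {a} ha => ⟨inv_mem ha.1, by
        rw [show ⁅a⁻¹, b⁆ = a⁻¹ * ⁅a, b⁆⁻¹ * a by simp only [commutatorElement_def]; group,
          hZc (inv_mem ha.2) (inv_mem ha.1), inv_mul_cancel_right]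
        exact inv_mem ha.2⟩ }
  have hKb : ∀ a ∈ K, b * a * b⁻¹ ∈ K := fun a ha => ⟨(mem_normalizer_iff.1 hbQ a).1 ha.1, by
    have := (mem_normalizer_iff.1 hbZ _).1 ha.2
    rwa [show ⁅b * a * b⁻¹, b⁆ = b * ⁅a, b⁆ * b⁻¹ by simp only [commutatorElement_def]; group]⟩
  have hpow : ∀ (A B : Subgroup G), (∀ x ∈ B, b * x * b⁻¹ ∈ B) → (∀ a ∈ A, ⁅a, b⁆ ∈ B) →
      ⁅A, zpowers b⁆ ≤ B := by
    intro A B hB hA
    refine commutator_le.2 fun a ha g hg => ?_
    obtain ⟨i, rfl⟩ := (isOfFinOrder_of_finite b).mem_powers_iff_mem_zpowers.2 hg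
    induction i with
    | zero => simp only [pow_zero, commutatorElement_one_right]; exact one_mem _
    | succ i ih =>
      have e : ⁅a, b ^ (i + 1)⁆ = ⁅a, b⁆ * (b * ⁅a, b ^ i⁆ * b⁻¹) := by
        rw [pow_succ']; simp only [commutatorElement_def]; group
      show ⁅a, b ^ (i + 1)⁆ ∈ B
      rw [e]
      exact mul_mem (hA a ha)
        (hB _ (ih ((isOfFinOrder_of_finite b).mem_powers_iff_mem_zpowers.1 ⟨i, rfl⟩)))
  refine hpow _ _ (fun x hx => (mem_normalizer_iff.1 hbZ x).1 hx) fun a ha => ?_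
  exact (hpow (blockQ 3 E) K hKb (fun a ha => ⟨hcomm hbQ ha, hkey a ha⟩) ha).2

end Cfsg.Agent.LAE65.Pair
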