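import Cfsg.Agent.LAE65.Pair.Mat
import Cfsg.Agent.LAE65.Basic
import Cfsg.Agent.LocalEven62.Basic

/-!
Sections of order `p²` with a regular action of a group of order `p² - 1`.
-/

set_option autoImplicit false
set_option linter.style.haveILetI false
set_option linter.unusedSectionVars false

open Matrix Subgroup Cfsg
open scoped commutatorElement

namespace Cfsg.Agent.LAE65.Pair

variable {G : Type*} [Group G]

/-- `E / Q` acts on the section `A / B` of order `p²` as the derived group of `SL₂(p)`. -/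
structure Sec (p : ℕ) (E Q A B : Subgroup G) where
  /-- the coordinates -/
  crd : G → Fin 2 → ZMod p
  /-- the matrices -/
  rep : G → Matrix (Fin 2) (Fin 2) (ZMod p)
  hp : p = 2 ∨ p = 3
  le : B ≤ A
  normA : E ≤ normalizer (A : Set G)
  crd_mul : ∀ {a b}, a ∈ A → b ∈ A → crd (a * b) = crd a + crd b
  crd_surj : ∀ v, ∃ a ∈ A, crd a = v
  crd_ker : ∀ {a}, a ∈ A → (crd a = 0 ↔ a ∈ B)
  rep_mem : ∀ {e}, e ∈ E → InR p (rep e)
  rep_surj : ∀ M, InR p M → ∃ e ∈ E, rep e = M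
  conj : ∀ {e a}, e ∈ E → a ∈ A → crd (e * a * e⁻¹) = rep e *ᵥ crd a
  rep_ker : ∀ {e}, e ∈ E → (rep e = 1 ↔ e ∈ Q)

namespace Sec

variable {p : ℕ} {E Q A B : Subgroup G} (S : Sec p E Q A B)
include S

theorem conj_mem {g a : G} (hg : g ∈ normalizer (A : Set G)) (ha : a ∈ A) : g * a * g⁻¹ ∈ A :=
  (mem_normalizer_iff.1 hg a).1 ha

theorem E_conj {e a : G} (he : e ∈ E) (ha : a ∈ A) : e * a * e⁻¹ ∈ A := S.conj_mem (S.normA he) ha

theorem crd_one : S.crd 1 = 0 := (S.crd_ker A.one_mem).2 B.one_mem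

theorem crd_inv {a : G} (ha : a ∈ A) : S.crd a⁻¹ = -S.crd a := by
  have h := S.crd_mul (A.inv_mem ha) ha
  rw [inv_mul_cancel, S.crd_one] at h
  exact eq_neg_of_add_eq_zero_left h.symm

theorem crd_eq_iff {a b : G} (ha : a ∈ A) (hb : b ∈ A) : S.crd a = S.crd b ↔ a * b⁻¹ ∈ B := by
  rw [← S.crd_ker (A.mul_mem ha (A.inv_mem hb)), S.crd_mul ha (A.inv_mem hb), S.crd_inv hb,
    ← sub_eq_add_neg, sub_eq_zero]

theorem crd_eq_neg_iff {a b : G} (ha : a ∈ A) (hb : b ∈ A) :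
    S.crd a = -S.crd b ↔ a * b ∈ B := by
  rw [← S.crd_ker (A.mul_mem ha hb), S.crd_mul ha hb, eq_neg_iff_add_eq_zero]

theorem crd_ne {a : G} (ha : a ∈ A) (haB : a ∉ B) : S.crd a ≠ 0 := fun h => haB ((S.crd_ker ha).1 h)

theorem comm_mem {a b : G} (ha : a ∈ A) (hb : b ∈ A) : ⁅a, b⁆ ∈ B := by
  have hab := A.mul_mem ha hb
  have h2 := A.mul_mem hab (A.inv_mem ha)
  have h3 := A.mul_mem h2 (A.inv_mem hb)
  rw [commutatorElement_def, ← S.crd_ker h3, S.crd_mul h2 (A.inv_mem hb),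
    S.crd_mul hab (A.inv_mem ha), S.crd_mul ha hb, S.crd_inv ha, S.crd_inv hb]
  abel

theorem A_le_normB [Finite G] : A ≤ normalizer (B : Set G) := fun a ha =>
  LocalEven62.mem_normalizer_of_conj_mem fun b hb => by
    have h := S.comm_mem ha (S.le hb)
    rw [commutatorElement_def] at h
    simpa using B.mul_mem h hb

theorem E_le_normB [Finite G] : E ≤ normalizer (B : Set G) := fun e he =>
  LocalEven62.mem_normalizer_of_conj_mem fun b hb => by
    rw [← S.crd_ker (S.E_conj he (S.le hb)), S.conj he (S.le hb), (S.crd_ker (S.le hb)).2 hb,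
      Matrix.mulVec_zero]

theorem ext {M N : Matrix (Fin 2) (Fin 2) (ZMod p)}
    (h : ∀ a ∈ A, M *ᵥ S.crd a = N *ᵥ S.crd a) : M = N :=
  Matrix.ext_of_mulVec_single fun i => by
    obtain ⟨a, ha, e⟩ := S.crd_surj (Pi.single i 1)
    rw [← e]; exact h a ha

/-- An element of `E` fixing a point outside `B` lies in `Q`. -/
theorem mem_of_fix {e a : G} (he : e ∈ E) (ha : a ∈ A) (haB : a ∉ B)
    (h : S.crd (e * a * e⁻¹) = S.crd a) : e ∈ Q := by
  rw [S.conj he ha] at h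
  exact (S.rep_ker he).1 (semireg S.hp (S.rep_mem he) h (S.crd_ne ha haB))

theorem trans {a b : G} (ha : a ∈ A) (haB : a ∉ B) (hb : b ∈ A) (hbB : b ∉ B) :
    ∃ e ∈ E, e * a * e⁻¹ * b⁻¹ ∈ B := by
  obtain ⟨M, hM, hMv⟩ := transitive S.hp (S.crd_ne ha haB) (S.crd_ne hb hbB)
  obtain ⟨e, he, rfl⟩ := S.rep_surj M hM
  exact ⟨e, he, (S.crd_eq_iff (S.E_conj he ha) hb).1 (by rw [S.conj he ha, hMv])⟩

theorem irr {Y : Subgroup G} (hBY : B ≤ Y) (hYA : Y ≤ A) (hEY : E ≤ normalizer (Y : Set G)) :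
    Y = B ∨ Y = A := by
  by_cases h : Y ≤ B
  · exact Or.inl (le_antisymm h hBY)
  right
  obtain ⟨y, hy, hyB⟩ := SetLike.not_le_iff_exists.1 h
  refine le_antisymm hYA fun a ha => ?_
  by_cases haB : a ∈ B
  · exact hBY haB
  obtain ⟨e, he, he'⟩ := S.trans (hYA hy) hyB ha haB
  have h1 : e * y * e⁻¹ ∈ Y := (mem_normalizer_iff.1 (hEY he) y).1 hy
  have h2 := Y.mul_mem (Y.inv_mem (hBY he')) h1
  simpa [mul_assoc] using h2

/-- The matrix of an element normalising `A` and `B`. -/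
theorem exists_mat {g : G} (hA : g ∈ normalizer (A : Set G)) (hB : g ∈ normalizer (B : Set G)) :
    ∃ M : Matrix (Fin 2) (Fin 2) (ZMod p), ∀ a ∈ A, S.crd (g * a * g⁻¹) = M *ᵥ S.crd a := by
  haveI : Fact p.Prime := ⟨by rcases S.hp with h | h <;> rw [h] <;> decide⟩
  choose l hlA hl using S.crd_surj
  have key : ∀ a ∈ A, S.crd (g * a * g⁻¹) = S.crd (g * l (S.crd a) * g⁻¹) := fun a ha => by
    rw [S.crd_eq_iff (S.conj_mem hA ha) (S.conj_mem hA (hlA _))]
    have := (mem_normalizer_iff.1 hB _).1 ((S.crd_eq_iff ha (hlA _)).1 (hl (S.crd a)).symm)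
    simpa [mul_assoc] using this
  let L : (Fin 2 → ZMod p) →+ (Fin 2 → ZMod p) :=
    AddMonoidHom.mk' (fun v => S.crd (g * l v * g⁻¹)) fun v w => by
      rw [← S.crd_mul (S.conj_mem hA (hlA v)) (S.conj_mem hA (hlA w)),
        show g * l v * g⁻¹ * (g * l w * g⁻¹) = g * (l v * l w) * g⁻¹ by group,
        key _ (A.mul_mem (hlA v) (hlA w)), S.crd_mul (hlA v) (hlA w), hl, hl]
  refine ⟨LinearMap.toMatrix' (L.toZModLinearMap p), fun a ha => ?_⟩
  rw [LinearMap.toMatrix'_mulVec, key a ha]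
  rfl

open scoped Classical in
/-- The matrix of an element normalising `A` and `B`. -/
noncomputable def mat (g : G) : Matrix (Fin 2) (Fin 2) (ZMod p) :=
  if h : g ∈ normalizer (A : Set G) ∧ g ∈ normalizer (B : Set G) then
    (S.exists_mat h.1 h.2).choose else 0

theorem mat_spec {g a : G} (hA : g ∈ normalizer (A : Set G)) (hB : g ∈ normalizer (B : Set G))
    (ha : a ∈ A) : S.crd (g * a * g⁻¹) = S.mat g *ᵥ S.crd a := by
  rw [mat, dif_pos ⟨hA, hB⟩]
  exact (S.exists_mat hA hB).choose_spec a ha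

theorem mat_mul {g h : G} (hgA : g ∈ normalizer (A : Set G)) (hgB : g ∈ normalizer (B : Set G))
    (hhA : h ∈ normalizer (A : Set G)) (hhB : h ∈ normalizer (B : Set G)) :
    S.mat (g * h) = S.mat g * S.mat h := by
  refine S.ext fun a ha => ?_
  rw [← Matrix.mulVec_mulVec, ← S.mat_spec hhA hhB ha, ← S.mat_spec hgA hgB (S.conj_mem hhA ha),
    ← S.mat_spec (mul_mem hgA hhA) (mul_mem hgB hhB) ha]
  congr 1
  group

theorem mat_one : S.mat 1 = 1 := S.ext fun a ha => by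
  rw [← S.mat_spec (one_mem _) (one_mem _) ha, Matrix.one_mulVec]; simp

theorem mat_pow {g : G} (hA : g ∈ normalizer (A : Set G)) (hB : g ∈ normalizer (B : Set G)) (n : ℕ) :
    S.mat (g ^ n) = S.mat g ^ n := by
  induction n with
  | zero => simp [S.mat_one]
  | succ n ih => rw [pow_succ, pow_succ, S.mat_mul (pow_mem hA n) (pow_mem hB n) hA hB, ih]

theorem mat_eq_rep [Finite G] {e : G} (he : e ∈ E) : S.mat e = S.rep e := S.ext fun a ha => by
  rw [← S.mat_spec (S.normA he) (S.E_le_normB he) ha, S.conj he ha]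

theorem mat_eq_one_iff {g : G} (hA : g ∈ normalizer (A : Set G)) (hB : g ∈ normalizer (B : Set G)) :
    S.mat g = 1 ↔ ∀ a ∈ A, g * a * g⁻¹ * a⁻¹ ∈ B := by
  constructor
  · intro h a ha
    rw [← S.crd_eq_iff (S.conj_mem hA ha) ha, S.mat_spec hA hB ha, h, Matrix.one_mulVec]
  · intro h
    refine S.ext fun a ha => ?_
    rw [← S.mat_spec hA hB ha, Matrix.one_mulVec, S.crd_eq_iff (S.conj_mem hA ha) ha]
    exact h a ha

theorem mat_eq_neg_iff {g : G} (hA : g ∈ normalizer (A : Set G)) (hB : g ∈ normalizer (B : Set G)) :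
    S.mat g = -1 ↔ ∀ a ∈ A, g * a * g⁻¹ * a ∈ B := by
  constructor
  · intro h a ha
    rw [← S.crd_eq_neg_iff (S.conj_mem hA ha) ha, S.mat_spec hA hB ha, h, Matrix.neg_mulVec,
      Matrix.one_mulVec]
  · intro h
    refine S.ext fun a ha => ?_
    rw [← S.mat_spec hA hB ha, Matrix.neg_mulVec, Matrix.one_mulVec,
      S.crd_eq_neg_iff (S.conj_mem hA ha) ha]
    exact h a ha

/-- An element commuting with `E` on the section is `1` or `-1` there. -/
theorem scalar [Finite G] (h3 : p = 3) {k : G} (hA : k ∈ normalizer (A : Set G))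
    (hB : k ∈ normalizer (B : Set G))
    (hk : ∀ e ∈ E, S.mat (k * e) = S.mat (e * k)) : S.mat k = 1 ∨ S.mat k = -1 := by
  subst h3
  refine (three_commutant _ fun N hN => ?_).resolve_left fun h0 => ?_
  · obtain ⟨e, he, rfl⟩ := S.rep_surj N hN
    rw [← S.mat_eq_rep he, ← S.mat_mul hA hB (S.normA he) (S.E_le_normB he),
      ← S.mat_mul (S.normA he) (S.E_le_normB he) hA hB, hk e he]
  · have h := S.mat_mul (inv_mem hA) (inv_mem hB) hA hB
    rw [inv_mul_cancel, S.mat_one, h0, mul_zero] at h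
    exact one_ne_zero h

/-- A `3`-element acts quadratically. -/
theorem quadratic (h3 : p = 3) {b : G} (hA : b ∈ normalizer (A : Set G))
    (hB : b ∈ normalizer (B : Set G)) {n : ℕ} (hb : b ^ 3 ^ n = 1) {a : G} (ha : a ∈ A) :
    ⁅⁅a, b⁆, b⁆ ∈ B := by
  subst h3
  have hM : S.mat b ^ 3 = 1 :=
    three_pow_three n (by rw [← S.mat_pow hA hB, hb, S.mat_one])
  have hq := congrArg (fun M => M *ᵥ S.crd a) (three_quad _ hM)
  have hc : ∀ {x}, x ∈ A → ⁅x, b⁆ ∈ A ∧ S.crd ⁅x, b⁆ = -((S.mat b - 1) *ᵥ S.crd x) := by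
    intro x hx
    have h1 := S.conj_mem hA (A.inv_mem hx)
    have e : ⁅x, b⁆ = x * (b * x⁻¹ * b⁻¹) := by rw [commutatorElement_def]; group
    refine ⟨e ▸ A.mul_mem hx h1, ?_⟩
    rw [e, S.crd_mul hx h1, S.mat_spec hA hB (A.inv_mem hx), S.crd_inv hx, Matrix.mulVec_neg,
      Matrix.sub_mulVec, Matrix.one_mulVec]
    abel
  obtain ⟨h1, e1⟩ := hc ha
  obtain ⟨h2, e2⟩ := hc h1
  rw [← S.crd_ker h2, e2, e1, Matrix.mulVec_neg, neg_neg, Matrix.mulVec_mulVec]
  simpa using hq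


omit S in
/-- Conjugates of sections. -/
def map (S : Sec p E Q A B) (f : G ≃* G) :
    Sec p (E.map f.toMonoidHom) (Q.map f.toMonoidHom) (A.map f.toMonoidHom) (B.map f.toMonoidHom) where
  crd := fun a => S.crd (f.symm a)
  rep := fun e => S.rep (f.symm e)
  hp := S.hp
  le := map_mono S.le
  normA := by
    rintro _ ⟨e, he, rfl⟩
    rw [mem_normalizer_iff]
    intro a
    constructor
    · rintro ⟨a, ha, rfl⟩
      exact ⟨e * a * e⁻¹, S.E_conj he ha, by simp⟩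
    · rintro ⟨a', ha', e'⟩
      refine ⟨e⁻¹ * a' * e, by simpa using S.E_conj (E.inv_mem he) ha', ?_⟩
      simp only [MulEquiv.coe_toMonoidHom, map_mul, map_inv] at e' ⊢
      rw [e']; group
  crd_mul := by
    rintro _ _ ⟨a, ha, rfl⟩ ⟨b, hb, rfl⟩
    simpa using S.crd_mul ha hb
  crd_surj := fun v => by
    obtain ⟨a, ha, rfl⟩ := S.crd_surj v
    exact ⟨f a, ⟨a, ha, rfl⟩, by simp⟩
  crd_ker := by
    rintro _ ⟨a, ha, rfl⟩
    have : f a ∈ B.map f.toMonoidHom ↔ a ∈ B :=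
      ⟨fun ⟨b, hb, e⟩ => f.injective e ▸ hb, fun h => ⟨a, h, rfl⟩⟩
    simpa [this] using S.crd_ker ha
  rep_mem := by
    rintro _ ⟨e, he, rfl⟩
    simpa using S.rep_mem he
  rep_surj := fun M hM => by
    obtain ⟨e, he, rfl⟩ := S.rep_surj M hM
    exact ⟨f e, ⟨e, he, rfl⟩, by simp⟩
  conj := by
    rintro _ _ ⟨e, he, rfl⟩ ⟨a, ha, rfl⟩
    simpa using S.conj he ha
  rep_ker := by
    rintro _ ⟨e, he, rfl⟩
    have : f e ∈ Q.map f.toMonoidHom ↔ e ∈ Q :=
      ⟨fun ⟨b, hb, h⟩ => f.injective h ▸ hb, fun h => ⟨e, h, rfl⟩⟩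
    simpa [this] using S.rep_ker he

omit S in
/-- A section over the trivial group has order `p²`. -/
theorem card_eq (S : Sec p E Q A ⊥) : Nat.card A = Nat.card (Fin 2 → ZMod p) := by
  refine Nat.card_congr (Equiv.ofBijective (fun a : A => S.crd a) ⟨fun a b h => ?_, fun v => ?_⟩)
  · have h' := (S.crd_eq_iff a.2 b.2).1 h
    rw [mem_bot, mul_inv_eq_one] at h'
    exact Subtype.ext h'
  · obtain ⟨a, ha, rfl⟩ := S.crd_surj v
    exact ⟨⟨a, ha⟩, rfl⟩

end Sec

end Cfsg.Agent.LAE65.Pair
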