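import Cfsg.Agent.LAE65.Pair.Sec
import Cfsg.Agent.LAE65.Pair.Facts
import Cfsg.Agent.Lib.Coprime.Abelian

/-!
Subnormal blocks with `E / O_p(E)` of order three or quaternion of order eight.
-/

set_option autoImplicit false
set_option linter.style.haveILetI false
set_option linter.unusedSectionVars false
set_option maxHeartbeats 800000

open Matrix Subgroup Cfsg
open scoped commutatorElement MatrixGroups Pointwise

namespace Cfsg.Agent.LAE65.Pair

open Block

variable {G : Type*} [Group G] [Finite G] {p : ℕ} [hp : Fact p.Prime]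

/-- `E ∩ O_p(G)`. -/
abbrev blockQ (p : ℕ) (E : Subgroup G) : Subgroup G := E ⊓ pCore p G

/-- The centre of `E`. -/
abbrev blockZ (E : Subgroup G) : Subgroup G := E ⊓ centralizer (E : Set G)

/-- The centre of `O_p(E)` in an exceptional block. -/
abbrev blockW (p : ℕ) (E : Subgroup G) : Subgroup G := blockModule p E ⊔ blockZ E

/-- The exceptional alternative. -/
structure Exc3 (p : ℕ) (E : Subgroup G) : Prop where
  three : p = 3
  cent_le : blockZ E ≤ pCore p G
  secQ : Nonempty (Sec p E (blockQ p E) (blockQ p E) (blockW p E))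
  derived : ⁅blockQ p E, blockQ p E⁆ = blockZ E
  nonquad : ∃ b ∈ normalizer (E : Set G), (∃ n, b ^ 3 ^ n = 1) ∧
    ¬ ⁅⁅blockQ p E, zpowers b⁆, zpowers b⁆ ≤ blockZ E

/-- The properties of a subnormal block with a small quotient. -/
structure Small (p : ℕ) (E : Subgroup G) : Prop where
  two_or_three : p = 2 ∨ p = 3
  res : pResidualOf p E = E
  normM : pCore p G ≤ normalizer (E : Set G)
  qmod : ∀ g ∈ E, ∃ j, g ^ (5 - p) ^ j ∈ pCore p G
  secX : Nonempty (Sec p E (blockQ p E) (blockModule p E) ⊥)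
  alt : blockQ p E = blockModule p E ∨ Exc3 p E

variable {T : Sylow p G} {E : Subgroup G}
  (hG : centralizer (pCore p G : Set G) ≤ pCore p G)
  (hE : IsBaumannBlock p (T : Subgroup G) E) (hEs : E.IsSubnormal)

include hG hE hEs

theorem omega_eq_blockW
    (hZ : E ⊓ centralizer (E : Set G) = omegaOneCenter p (pCoreOf p E) ⊓ centralizer (E : Set G)) :
    omegaOneCenter p (pCoreOf p E) = blockW p E :=
  le_antisymm (hZ.symm ▸ (moduleFacts hG hE).sup_eq :)
    (sup_le (moduleFacts hG hE).le_omega (hZ.le.trans inf_le_left))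

theorem inf_cent_eq_bot (hq : ∀ g ∈ E, ∃ j, g ^ (5 - p) ^ j ∈ pCore p G) (hp2 : p = 2 ∨ p = 3) :
    blockModule p E ⊓ centralizer (E : Set G) = ⊥ := by
  obtain ⟨q, hqp, hqq, hcop⟩ : ∃ q, q.Prime ∧ 5 - p = q ∧ q.Coprime p := by
    rcases hp2 with rfl | rfl
    exacts [⟨3, by norm_num, rfl, by norm_num⟩, ⟨2, by norm_num, rfl, by norm_num⟩]
  haveI : Fact q.Prime := ⟨hqp⟩
  haveI : (pCore p G).Normal := inferInstance
  obtain ⟨A⟩ := (inferInstance : Nonempty (Sylow q ↥E))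
  set π := (QuotientGroup.mk' ((pCore p G).subgroupOf E))
  have hπs : Function.Surjective π := QuotientGroup.mk'_surjective _
  have hquot : IsPGroup q (↥E ⧸ (pCore p G).subgroupOf E) := by
    intro x
    obtain ⟨x, rfl⟩ := hπs x
    obtain ⟨j, hj⟩ := hq x x.2
    refine ⟨j, ?_⟩
    rw [← map_pow, ← hqq]
    exact (QuotientGroup.eq_one_iff _).2 (mem_subgroupOf.2 (by simpa using hj))
  have htop : (A : Subgroup ↥E).map π = ⊤ := by
    have h := (A.mapSurjective hπs).is_maximal' (hquot.to_subgroup ⊤) le_top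
    exact h.symm
  set A' := (A : Subgroup ↥E).map E.subtype with hA'
  have hEA : E ≤ A' ⊔ pCore p G := by
    intro e he
    obtain ⟨a, ha, hae⟩ := (htop.symm ▸ mem_top (π ⟨e, he⟩) : π ⟨e, he⟩ ∈ (A : Subgroup ↥E).map π)
    have := mem_subgroupOf.1 (QuotientGroup.eq.1 hae)
    rw [show e = (a : G) * ((a : G)⁻¹ * e) by group]
    exact mul_mem (mem_sup_left ⟨a, ha, rfl⟩) (mem_sup_right (by simpa using this))
  set V := omegaOneCenter p (pCore p G) with hV
  have hVel : IsElementaryAbelian p V := isElementaryAbelian_omegaOneCenter _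
  haveI : IsMulCommutative V := hVel.1
  have hAV : A' ≤ normalizer (V : Set G) := le_normalizer_omegaPCore A'
  have hcard : (Nat.card A').Coprime (Nat.card V) := by
    obtain ⟨n, hn⟩ := IsPGroup.iff_card.1 (A.isPGroup'.map E.subtype)
    obtain ⟨m, hm⟩ := IsPGroup.iff_card.1 (Thompson.isPGroup_of_isElementaryAbelian hVel)
    rw [hn, hm]
    exact hcop.pow n m
  have hX : blockModule p E ≤ ⁅V, A'⁆ := by
    rw [blockModule, commutator_le]
    intro v hv e he
    obtain ⟨a, ha, m, hm, rfl⟩ := Subgroup.mem_sup_of_normal_right.1 (hEA he)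
    have hc : ⁅v, m⁆ = 1 := commutatorElement_eq_one_iff_mul_comm.2
      (mem_centralizer_iff.1 (omegaOneCenter_le_centralizer _ hv) m hm).symm
    rw [show ⁅v, a * m⁆ = ⁅v, a⁆ * (a * ⁅v, m⁆ * a⁻¹) by
      simp only [commutatorElement_def]; group, hc]
    simpa using commutator_mem_commutator hv ha
  rw [eq_bot_iff, ← Coprime.commutator_inf_centralizer_eq_bot A' V hAV hcard]
  exact le_inf (inf_le_left.trans hX) (inf_le_right.trans (centralizer_le (map_subtype_le _)))

theorem small_of_sections (hp2 : p = 2 ∨ p = 3)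
    (sW : Sec p E (pCoreOf p E) (omegaOneCenter p (pCoreOf p E))
      (omegaOneCenter p (pCoreOf p E) ⊓ centralizer (E : Set G)))
    (halt : pCoreOf p E = omegaOneCenter p (pCoreOf p E) ∨ (Exceptional p E ∧
      E ⊓ centralizer (E : Set G) = omegaOneCenter p (pCoreOf p E) ⊓ centralizer (E : Set G) ∧
      Nonempty (Sec p E (pCoreOf p E) (pCoreOf p E) (omegaOneCenter p (pCoreOf p E))) ∧
      ∀ b : G, b ∈ baumannSubgroupOf p (T : Subgroup G) →
        b ∉ centralizer (omegaOneCenter p (pCoreOf p E) : Set G) →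
        ¬ ⁅⁅pCoreOf p E, zpowers b⁆, zpowers b⁆ ≤ E ⊓ centralizer (E : Set G))) :
    Small p E := by
  have hQ := core_eq_inf (p := p) hEs
  have hf := moduleFacts hG hE
  set W := omegaOneCenter p (pCoreOf p E)
  have hq : ∀ g ∈ E, ∃ j, g ^ (5 - p) ^ j ∈ pCore p G := by
    intro g hg
    obtain ⟨j, hj⟩ : ∃ j, sW.rep g ^ (5 - p) ^ j = 1 := by
      rcases hp2 with rfl | rfl
      · exact ⟨1, (sW.rep_mem hg).2⟩
      · exact ⟨2, (sW.rep_mem hg).2⟩
    refine ⟨j, (hQ.ge ((sW.rep_ker (E.pow_mem hg _)).1 ?_)).2⟩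
    rw [← sW.mat_eq_rep (E.pow_mem hg _), sW.mat_pow (sW.normA hg) (sW.E_le_normB hg),
      sW.mat_eq_rep hg, hj]
  have hXc := inf_cent_eq_bot hG hE hEs hq hp2
  have hdec : ∀ w ∈ W, ∃ x ∈ blockModule p E, sW.crd x = sW.crd w := by
    intro w hw
    have hn : blockModule p E ≤ normalizer ((W ⊓ centralizer (E : Set G) : Subgroup G) : Set G) :=
      hf.le_omega.trans sW.A_le_normB
    have h2 : w ∈ ((blockModule p E : Set G) * ((W ⊓ centralizer (E : Set G) : Subgroup G) : Set G)) := by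
      rw [← coe_mul_of_left_le_normalizer_right _ _ hn]; exact hf.sup_eq hw
    obtain ⟨x, hx, z, hz, rfl⟩ := Set.mem_mul.1 h2
    exact ⟨x, hx, by rw [sW.crd_mul (hf.le_omega hx) (inf_le_left (b := centralizer (E : Set G)) hz),
      (sW.crd_ker (inf_le_left (b := centralizer (E : Set G)) hz)).2 hz, add_zero]⟩
  refine ⟨hp2, hE.1, core_le_normalizer hE, hq, ⟨
    { crd := sW.crd
      rep := sW.rep
      hp := hp2
      le := bot_le
      normA := hf.le_normalizer
      crd_mul := fun ha hb => sW.crd_mul (hf.le_omega ha) (hf.le_omega hb)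
      crd_surj := fun v => by
        obtain ⟨w, hw, rfl⟩ := sW.crd_surj v
        exact hdec w hw
      crd_ker := fun {a} ha => by
        rw [sW.crd_ker (hf.le_omega ha), mem_bot]
        refine ⟨fun h => ?_, fun h => h ▸ one_mem _⟩
        have : a ∈ blockModule p E ⊓ centralizer (E : Set G) := ⟨ha, h.2⟩
        rwa [hXc, mem_bot] at this
      rep_mem := fun he => sW.rep_mem he
      rep_surj := sW.rep_surj
      conj := fun he ha => sW.conj he (hf.le_omega ha)
      rep_ker := fun he => by rw [sW.rep_ker he, blockQ, hQ] }⟩, ?_⟩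
  rcases halt with h | ⟨hexc, hZ, ⟨sQ⟩, hb⟩
  · left
    rw [blockQ, hQ]
    refine le_antisymm ?_ (hf.le_omega.trans (omegaOneCenter_le _))
    conv_lhs => rw [← hE.2.2.1, h]
    exact hf.eq.le
  · right
    have hWeq : W = blockW p E := omega_eq_blockW hG hE hEs hZ
    refine ⟨hexc.three, ?_, ?_, ?_, ?_⟩
    · exact hZ.le.trans (inf_le_left.trans ((omegaOneCenter_le _).trans (hQ.ge.trans inf_le_right)))
    · rw [blockQ, hQ, ← hWeq]; exact ⟨sQ⟩
    · rw [blockQ, hQ, blockZ, hZ]; exact hexc.derived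
    · obtain ⟨b, hbB, hbW⟩ : ∃ b ∈ baumannSubgroupOf p (T : Subgroup G),
          b ∉ centralizer (W : Set G) := SetLike.not_le_iff_exists.1 fun h => by
        refine module_not_centralized hG hE (commutator_eq_bot_iff_le_centralizer.2
          (le_centralizer_iff.1 ((thompson_le_baumann _).trans (h.trans (centralizer_le ?_)))))
        rw [hf.eq]; exact hf.le_omega
      obtain ⟨n, hn⟩ := T.isPGroup' ⟨b, baumann_le _ hbB⟩
      refine ⟨b, le_normalizer_of_commutator_eq hE.2.1 hbB, ⟨n, ?_⟩, ?_⟩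
      · rw [← hexc.three]; simpa using congrArg Subtype.val hn
      · rw [blockQ, hQ]; exact hb b hbB hbW

omit hG hEs in
theorem nonempty_sec_of_sl2 {F : Type} [Field F] [Fintype F] (hF : Fintype.card F = p)
    (hp2 : p = 2 ∨ p = 3)
    (hiso : Nonempty (↥E ⧸ pCore p ↥E ≃* ↥(commutator SL(2, F)))) {U U₀ : Subgroup G}
    (hact : ActsAsSL2OnSection F (commutator SL(2, F)) E U U₀)
    (htriv : ∀ q ∈ pCoreOf p E, ∀ u ∈ U, q * u * q⁻¹ * u⁻¹ ∈ U₀) :
    Nonempty (Sec p E (pCoreOf p E) U U₀) := by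
  classical
  obtain ⟨hn, hle, ρ, ψ, hρ, hψ, hker, heq⟩ := hact
  obtain ⟨iso⟩ := hiso
  let φ : F ≃+* ZMod p := (ZMod.ringEquivOfPrime F hp.out hF).symm
  let Φ : SL(2, F) ≃* SL(2, ZMod p) :=
    { toFun := Matrix.SpecialLinearGroup.map φ.toRingHom
      invFun := Matrix.SpecialLinearGroup.map φ.symm.toRingHom
      left_inv := fun g => Subtype.ext (Matrix.ext fun i j => by simp)
      right_inv := fun g => Subtype.ext (Matrix.ext fun i j => by simp)
      map_mul' := map_mul _ }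
  let crd : G → Fin 2 → ZMod p :=
    Function.extend Subtype.val (fun u : ↥U => φ ∘ Multiplicative.toAdd (ψ u)) 0
  let rep : G → Matrix (Fin 2) (Fin 2) (ZMod p) :=
    Function.extend Subtype.val (fun e : ↥E => (Φ (ρ e) : Matrix (Fin 2) (Fin 2) (ZMod p))) 0
  have hc : ∀ u : U, crd u = φ ∘ Multiplicative.toAdd (ψ u) := fun u =>
    Subtype.val_injective.extend_apply _ _ _
  have hr : ∀ e : E, rep e = Φ (ρ e) := fun e => Subtype.val_injective.extend_apply _ _ _
  have hkeq : ρ.ker = pCore p ↥E := by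
    refine ker_eq_core ρ (fun q hq => ?_) (by rw [hρ]; exact (Nat.card_congr iso.toEquiv).symm)
    rw [MonoidHom.mem_ker]
    apply Subtype.ext
    refine Matrix.ext_of_mulVec_single fun i => ?_
    rw [Matrix.SpecialLinearGroup.coe_one, Matrix.one_mulVec]
    obtain ⟨u, hu⟩ := hψ (Multiplicative.ofAdd (Pi.single i 1))
    obtain ⟨w, hw, hw'⟩ := heq q u
    rw [hu, toAdd_ofAdd] at hw'
    rw [← hw']
    have : ψ (w * u⁻¹) = 1 := (hker _).2 (by
      rw [Subgroup.coe_mul, Subgroup.coe_inv, hw]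
      exact htriv q ⟨q, hq, rfl⟩ u u.2)
    rw [map_mul, map_inv, mul_inv_eq_one] at this
    rw [this, hu, toAdd_ofAdd]
  refine ⟨⟨crd, rep, hp2, hle, hn, ?_, ?_, ?_, ?_, ?_, ?_, ?_⟩⟩
  · intro a b ha hb
    have := hc (⟨a, ha⟩ * ⟨b, hb⟩)
    simp only [Subgroup.coe_mul] at this
    rw [this, hc ⟨a, ha⟩, hc ⟨b, hb⟩, map_mul, toAdd_mul]
    funext i
    simp
  · intro v
    obtain ⟨u, hu⟩ := hψ (Multiplicative.ofAdd (φ.symm ∘ v))
    exact ⟨u, u.2, by rw [hc, hu]; funext i; simp⟩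
  · intro a ha
    rw [hc ⟨a, ha⟩, ← hker ⟨a, ha⟩]
    constructor
    · intro h
      apply Multiplicative.toAdd.injective
      funext i
      exact φ.injective (by simpa using congrFun h i)
    · intro h; rw [h]; funext i; simp
  · intro e he
    rw [hr ⟨e, he⟩, inR_iff hp2]
    refine ⟨_, ?_, rfl⟩
    have h1 : ρ ⟨e, he⟩ ∈ commutator SL(2, F) := hρ ▸ ⟨_, rfl⟩
    have h2 := mem_map_of_mem Φ.toMonoidHom h1
    rw [_root_.commutator_def, map_commutator, map_top_of_surjective Φ.toMonoidHom Φ.surjective] at h2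
    rw [_root_.commutator_def]; exact h2
  · intro M hM
    obtain ⟨g, hg, rfl⟩ := (inR_iff hp2 M).1 hM
    have : commutator SL(2, ZMod p) ≤ (commutator SL(2, F)).map Φ.toMonoidHom := by
      rw [_root_.commutator_def, _root_.commutator_def, map_commutator,
        map_top_of_surjective Φ.toMonoidHom Φ.surjective]
    obtain ⟨g', hg', rfl⟩ := this hg
    obtain ⟨e, rfl⟩ := (hρ.symm ▸ hg' : g' ∈ ρ.range)
    exact ⟨e, e.2, hr e⟩
  · intro e a he ha
    obtain ⟨w, hw, hw'⟩ := heq ⟨e, he⟩ ⟨a, ha⟩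
    have h := hc w
    rw [hw] at h
    rw [h, hc ⟨a, ha⟩, hr ⟨e, he⟩, hw']
    funext i
    exact (RingHom.map_mulVec φ.toRingHom _ _ i)
  · intro e he
    rw [hr ⟨e, he⟩]
    have hQ : e ∈ pCoreOf p E ↔ (⟨e, he⟩ : E) ∈ pCore p ↥E :=
      ⟨fun ⟨q, hq, h⟩ => by subst h; exact hq, fun h => ⟨_, h, rfl⟩⟩
    rw [hQ, ← hkeq, MonoidHom.mem_ker]
    constructor
    · intro h
      exact Φ.injective (Subtype.ext (by rw [h, map_one, Matrix.SpecialLinearGroup.coe_one]))
    · intro h; rw [h, map_one, Matrix.SpecialLinearGroup.coe_one]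

omit hG hEs in
theorem triv_omega {q : G} (hq : q ∈ pCoreOf p E) {u : G} (hu : u ∈ omegaOneCenter p (pCoreOf p E))
    (B : Subgroup G) : q * u * q⁻¹ * u⁻¹ ∈ B := by
  rw [mem_centralizer_iff.1 (omegaOneCenter_le_centralizer _ hu) q hq]
  simp

theorem small_of_sl {F : Type} [Field F] [Fintype F] (hF : Fintype.card F = p) (hp2 : p = 2 ∨ p = 3)
    (hiso : Nonempty (↥E ⧸ pCore p ↥E ≃* ↥(commutator SL(2, F))))
    (hact : ActsAsSL2OnSection F (commutator SL(2, F)) E (omegaOneCenter p (pCoreOf p E))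
      (omegaOneCenter p (pCoreOf p E) ⊓ centralizer (E : Set G)))
    (halt : pCoreOf p E = omegaOneCenter p (pCoreOf p E) ∨ (p = 3 ∧
      ActsAsSL2OnSection F (commutator SL(2, F)) E (pCoreOf p E) (omegaOneCenter p (pCoreOf p E)) ∧
      ⁅pCoreOf p E, pCoreOf p E⁆ = omegaOneCenter p (pCoreOf p E) ⊓ centralizer (E : Set G) ∧
      E ⊓ centralizer (E : Set G) = omegaOneCenter p (pCoreOf p E) ⊓ centralizer (E : Set G) ∧
      ∀ b : G, b ∈ baumannSubgroupOf p (T : Subgroup G) →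
        b ∉ centralizer (omegaOneCenter p (pCoreOf p E) : Set G) →
        ¬ ⁅⁅pCoreOf p E, zpowers b⁆, zpowers b⁆ ≤ E ⊓ centralizer (E : Set G))) :
    Small p E := by
  obtain ⟨sW⟩ := nonempty_sec_of_sl2 hE hF hp2 hiso hact fun q hq u hu =>
    triv_omega hE hq hu _
  rcases halt with h | ⟨h3, hactQ, hder, hZ, hb⟩
  · exact small_of_sections hG hE hEs hp2 sW (Or.inl h)
  have hexc : Exceptional p E := (core_cases hG hE).resolve_left fun h => by
    have hX := (moduleFacts hG hE).le_omega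
    obtain ⟨hn, -, ρ, ψ, -, hψ, hker, -⟩ := hactQ
    obtain ⟨u, hu⟩ := hψ (Multiplicative.ofAdd (fun _ => 1))
    have := (hker u).2 (hX (h.le u.2))
    rw [hu] at this
    exact one_ne_zero (α := F) (congrFun (congrArg Multiplicative.toAdd this) 0)
  refine small_of_sections hG hE hEs hp2 sW (Or.inr ⟨hexc, hZ, ?_, hb⟩)
  refine nonempty_sec_of_sl2 hE hF hp2 hiso hactQ fun q hq u hu => ?_
  have h : ⁅q, u⁆ ∈ omegaOneCenter p (pCoreOf p E) :=
    (hder.le.trans inf_le_left) (commutator_mem_commutator hq hu)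
  rwa [commutatorElement_def] at h

theorem small_of_alt3 (hp2 : p = 2)
    (hiso : Nonempty (↥E ⧸ pCore p ↥E ≃* ↥(alternatingGroup (Fin (2 * 1 + 1)))))
    (hact : ActsAsOddPermModuleOnSection (2 * 1 + 1) (alternatingGroup (Fin (2 * 1 + 1))) E
      (omegaOneCenter p (pCoreOf p E))
      (omegaOneCenter p (pCoreOf p E) ⊓ centralizer (E : Set G)))
    (hq : pCoreOf p E = omegaOneCenter p (pCoreOf p E)) : Small p E := by
  classical
  subst hp2
  obtain ⟨hn, hle, ρ, ψ, hρ, hsum, hsurj, hker, heq⟩ := hact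
  obtain ⟨iso⟩ := hiso
  let crd : G → Fin 2 → ZMod 2 :=
    Function.extend Subtype.val (fun u : ↥(omegaOneCenter 2 (pCoreOf 2 E)) => fun i => Multiplicative.toAdd (ψ u) i.castSucc) 0
  let rep : G → Matrix (Fin 2) (Fin 2) (ZMod 2) :=
    Function.extend Subtype.val (fun e : ↥E => permMat (ρ e)) 0
  have hc : ∀ u : omegaOneCenter 2 (pCoreOf 2 E), crd u = fun i => Multiplicative.toAdd (ψ u) i.castSucc := fun u =>
    Subtype.val_injective.extend_apply _ _ _
  have hr : ∀ e : E, rep e = permMat (ρ e) := fun e => Subtype.val_injective.extend_apply _ _ _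
  have hs : ∀ u : omegaOneCenter 2 (pCoreOf 2 E), Multiplicative.toAdd (ψ u) 0 + Multiplicative.toAdd (ψ u) 1 +
      Multiplicative.toAdd (ψ u) 2 = 0 := fun u => by
    have := hsum u
    rwa [Fin.sum_univ_three] at this
  have hext := even_ext
  have hext2 := even_lift
  have hkeq : ρ.ker = pCore 2 ↥E := by
    refine ker_eq_core ρ (fun q hq => ?_) (by rw [hρ]; exact (Nat.card_congr iso.toEquiv).symm)
    rw [MonoidHom.mem_ker]
    refine permMat_one_iff _ (Matrix.ext_of_mulVec_single fun i => ?_)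
    rw [Matrix.one_mulVec]
    obtain ⟨u, hu⟩ := hsurj ![(Pi.single i 1 : Fin 2 → ZMod 2) 0, (Pi.single i 1 : Fin 2 → ZMod 2) 1,
      (Pi.single i 1 : Fin 2 → ZMod 2) 0 + (Pi.single i 1 : Fin 2 → ZMod 2) 1]
      (by rw [Fin.sum_univ_three]; exact hext2 (Pi.single i 1))
    obtain ⟨w, hw, hw'⟩ := heq q u
    have hwu : w = u := Subtype.ext (by
      rw [hw, mem_centralizer_iff.1 (omegaOneCenter_le_centralizer _ u.2) q ⟨q, hq, rfl⟩]; simp)
    have h := permMat_mulVec (ρ q) (Multiplicative.toAdd (ψ u)) (hs u)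
    have hi : (fun j : Fin 2 => Multiplicative.toAdd (ψ u) j.castSucc) = Pi.single i 1 := by
      rw [hu]; funext j; fin_cases j <;> rfl
    have h2 : (fun j : Fin 2 => Multiplicative.toAdd (ψ u) ((ρ q)⁻¹ j.castSucc)) = Pi.single i 1 := by
      rw [← hi]; funext j; rw [← hw' j.castSucc, hwu]
    rw [h2, hi] at h
    exact h.symm
  refine small_of_sections hG hE hEs (Or.inl rfl)
    ⟨crd, rep, Or.inl rfl, hle, hn, ?_, ?_, ?_, ?_, ?_, ?_, ?_⟩ (Or.inl hq)
  · intro a b ha hb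
    have := hc (⟨a, ha⟩ * ⟨b, hb⟩)
    simp only [Subgroup.coe_mul] at this
    rw [this, hc ⟨a, ha⟩, hc ⟨b, hb⟩, map_mul, toAdd_mul]
    rfl
  · intro v
    obtain ⟨u, hu⟩ := hsurj ![v 0, v 1, v 0 + v 1] (by rw [Fin.sum_univ_three]; exact hext2 v)
    exact ⟨u, u.2, by rw [hc, hu]; funext i; fin_cases i <;> rfl⟩
  · intro a ha
    rw [hc ⟨a, ha⟩, ← hker ⟨a, ha⟩]
    constructor
    · intro h
      exact Multiplicative.toAdd.injective (hext _ (hs _) (congrFun h 0) (congrFun h 1))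
    · intro h; rw [h]; rfl
  · intro e he
    rw [hr ⟨e, he⟩]
    exact permMat_mem _ (Equiv.Perm.mem_alternatingGroup.1 (hρ ▸ ⟨_, rfl⟩))
  · intro M hM
    obtain ⟨σ, hσ, rfl⟩ := permMat_surj M hM
    rw [← Equiv.Perm.mem_alternatingGroup] at hσ
    obtain ⟨e, rfl⟩ := (hρ.symm ▸ hσ : σ ∈ ρ.range)
    exact ⟨e, e.2, hr e⟩
  · intro e a he ha
    obtain ⟨w, hw, hw'⟩ := heq ⟨e, he⟩ ⟨a, ha⟩
    have h := hc w
    rw [hw] at h
    rw [h, hc ⟨a, ha⟩, hr ⟨e, he⟩, ← permMat_mulVec _ _ (hs _)]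
    funext i
    exact hw' i.castSucc
  · intro e he
    rw [hr ⟨e, he⟩]
    have hQ : e ∈ pCoreOf 2 E ↔ (⟨e, he⟩ : E) ∈ pCore 2 ↥E :=
      ⟨fun ⟨q, hq, h⟩ => by subst h; exact hq, fun h => ⟨_, h, rfl⟩⟩
    rw [hQ, ← hkeq, MonoidHom.mem_ker]
    exact ⟨permMat_one_iff _, fun h => h ▸ permMat_one⟩

end Cfsg.Agent.LAE65.Pair
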